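import Groth.Agent.RelSpecX.AffHom
import Groth.Agent.RelSpecX.Gamma
import Mathlib.AlgebraicGeometry.Morphisms.Separated
import Mathlib.Topology.Sheaves.SheafCondition.UniqueGluing

/-!
# The spectrum of the fibre product of `O_Y` and a direct image algebra
-/

universe u

open CategoryTheory CategoryTheory.Limits AlgebraicGeometry TopologicalSpace Opposite

set_option linter.style.haveILetI false
set_option backward.isDefEq.respectTransparency false
set_option backward.isDefEq.respectTransparency.types false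

noncomputable section

namespace Groth.Agent.ContractX

open Groth.Agent

theorem QCAlg.exists_surj {S : Scheme.{u}} (A : RelSpec.QCAlg S) {U : S.Opens} (hU : IsAffineOpen U) (r : Γ(S, U))
    (z : A.presheaf.obj (op (S.basicOpen r))) :
    ∃ (k : ℕ) (t : A.presheaf.obj (op U)), z * (A.presheaf.map (homOfLE (S.basicOpen_le r)).op).hom
        ((A.str.app (op U)).hom r) ^ k = (A.presheaf.map (homOfLE (S.basicOpen_le r)).op).hom t := by
  letI := (A.presheaf.map (homOfLE (S.basicOpen_le r)).op).hom.toAlgebra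
  haveI : IsLocalization.Away ((A.str.app (op U)).hom r) (A.presheaf.obj (op (S.basicOpen r))) := A.isQC U hU r
  obtain ⟨⟨t, _, k, rfl⟩, e⟩ := IsLocalization.surj (Submonoid.powers ((A.str.app (op U)).hom r)) z
  refine ⟨k, t, ?_⟩
  rw [← map_pow]
  exact e

theorem QCAlg.exists_eq_zero {S : Scheme.{u}} (A : RelSpec.QCAlg S) {U : S.Opens} (hU : IsAffineOpen U) (r : Γ(S, U))
    (x : A.presheaf.obj (op U)) (hx : (A.presheaf.map (homOfLE (S.basicOpen_le r)).op).hom x = 0) :
    ∃ k : ℕ, (A.str.app (op U)).hom r ^ k * x = 0 := by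
  letI := (A.presheaf.map (homOfLE (S.basicOpen_le r)).op).hom.toAlgebra
  haveI : IsLocalization.Away ((A.str.app (op U)).hom r) (A.presheaf.obj (op (S.basicOpen r))) := A.isQC U hU r
  obtain ⟨⟨_, k, rfl⟩, e⟩ := (IsLocalization.map_eq_zero_iff (Submonoid.powers ((A.str.app (op U)).hom r))
    (A.presheaf.obj (op (S.basicOpen r))) x).1 hx
  exact ⟨k, e⟩

variable {X Y V : Scheme.{u}} (p : X ⟶ Y) (πV : V ⟶ Y) (j : X ⟶ V) (hj : j ≫ πV = p)

/-- The restriction to `X` of functions on `V`. -/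
abbrev jn : AffAlg.alg πV ⟶ AffAlg.alg p := AffAlg.algHom πV p j hj

/-- The restriction to `X` of functions on `V` over an open. -/
def jh (O : Y.Opens) : Γ(V, πV ⁻¹ᵁ O) →+* Γ(X, p ⁻¹ᵁ O) := ((jn p πV j hj).app (op O)).hom

/-- Pairs of functions on `Y` and on `V` agreeing on `X`. -/
def Sect (O : Y.Opens) : Subring (Γ(Y, O) × Γ(V, πV ⁻¹ᵁ O)) :=
  RingHom.eqLocus ((p.app O).hom.comp (RingHom.fst _ _)) ((jh p πV j hj O).comp (RingHom.snd _ _))

theorem mem_sect {O : Y.Opens} (a : Γ(Y, O)) (v : Γ(V, πV ⁻¹ᵁ O)) :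
    (a, v) ∈ Sect p πV j hj O ↔ p.app O a = jh p πV j hj O v := Iff.rfl

theorem pair_mem_res {O O' : Y.Opens} (h : O' ≤ O) (z : Γ(Y, O) × Γ(V, πV ⁻¹ᵁ O)) (hz : z ∈ Sect p πV j hj O) :
    ((Y.presheaf.map (homOfLE h).op z.1, V.presheaf.map (homOfLE (πV.preimage_mono h)).op z.2) :
      Γ(Y, O') × Γ(V, πV ⁻¹ᵁ O')) ∈ Sect p πV j hj O' :=
  ((congr($(p.c.naturality (homOfLE h).op) z.1)).trans
    (congrArg (X.presheaf.map (homOfLE (p.preimage_mono h)).op).hom hz)).trans
    (congr($((jn p πV j hj).naturality (homOfLE h).op) z.2)).symm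

/-- Restriction. -/
def res {O O' : Y.Opens} (h : O' ≤ O) : Sect p πV j hj O →+* Sect p πV j hj O' :=
  ((RingHom.prodMap (Y.presheaf.map (homOfLE h).op).hom
    (V.presheaf.map (homOfLE (πV.preimage_mono h)).op).hom).comp (Sect p πV j hj O).subtype).codRestrict _
      fun z => pair_mem_res p πV j hj h z.1 z.2

/-- The presheaf of rings. -/
def presh : TopCat.Presheaf CommRingCat.{u} Y.carrier where
  obj O := CommRingCat.of (Sect p πV j hj O.unop)
  map i := CommRingCat.ofHom (res p πV j hj i.unop.le)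
  map_id O := CommRingCat.hom_ext (RingHom.ext fun z => Subtype.ext (Prod.ext
    (ConcreteCategory.congr_hom (Y.presheaf.map_id O) z.1.1)
    (ConcreteCategory.congr_hom (V.presheaf.map_id (op (πV ⁻¹ᵁ O.unop))) z.1.2)))
  map_comp i i' := CommRingCat.hom_ext (RingHom.ext fun z => Subtype.ext (Prod.ext
    (ConcreteCategory.congr_hom (Y.presheaf.map_comp i i') z.1.1)
    (ConcreteCategory.congr_hom ((πV.base _* V.presheaf).map_comp i i') z.1.2)))

theorem isSheaf_presh : (presh p πV j hj).IsSheaf := by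
  rw [TopCat.Presheaf.isSheaf_iff_isSheafUniqueGluing]
  intro ι U sf hsf
  let PV : TopCat.Sheaf CommRingCat.{u} Y.carrier := ⟨_, TopCat.Sheaf.pushforward_sheaf_of_sheaf πV.base V.sheaf.property⟩
  let PX : TopCat.Sheaf CommRingCat.{u} Y.carrier := ⟨_, TopCat.Sheaf.pushforward_sheaf_of_sheaf p.base X.sheaf.property⟩
  obtain ⟨r, hr, hr'⟩ := Y.sheaf.existsUnique_gluing U (fun i => (show Sect p πV j hj (U i) from sf i).1.1)
    fun i k => congrArg (fun z : Sect p πV j hj (U i ⊓ U k) => z.1.1) (hsf i k)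
  obtain ⟨l, hl, hl'⟩ := PV.existsUnique_gluing U (fun i => (show Sect p πV j hj (U i) from sf i).1.2)
    fun i k => congrArg (fun z : Sect p πV j hj (U i ⊓ U k) => z.1.2) (hsf i k)
  have hmem : (r, l) ∈ Sect p πV j hj (iSup U) := by
    rw [mem_sect]
    refine PX.eq_of_locally_eq U _ _ fun i => ?_
    refine (congr($(p.c.naturality (Opens.leSupr U i).op) r)).symm.trans
      (Eq.trans ?_ (congr($((jn p πV j hj).naturality (Opens.leSupr U i).op) l)))
    exact (congrArg (p.app (U i)).hom (hr i)).trans (((show Sect p πV j hj (U i) from sf i).2).trans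
      (congrArg (jh p πV j hj (U i)) (hl i)).symm)
  refine ⟨(⟨(r, l), hmem⟩ : Sect p πV j hj (iSup U)), fun i => Subtype.ext (Prod.ext (hr i) (hl i)),
    fun z hz => Subtype.ext (Prod.ext ?_ ?_)⟩
  · exact hr' _ fun i => congrArg (fun w : Sect p πV j hj (U i) => w.1.1) (hz i)
  · exact hl' _ fun i => congrArg (fun w : Sect p πV j hj (U i) => w.1.2) (hz i)

theorem str_mem (O : Y.Opens) (a : Γ(Y, O)) : (a, πV.app O a) ∈ Sect p πV j hj O :=
  (congr($(NatTrans.congr_app (AffAlg.algHom_comm πV p j hj) (op O)) a)).symm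

/-- The structure map. -/
def str : Y.presheaf ⟶ presh p πV j hj where
  app O := CommRingCat.ofHom (((RingHom.id _).prod (πV.app O.unop).hom).codRestrict _
    fun a => str_mem p πV j hj O.unop a)
  naturality _ _ i := CommRingCat.hom_ext (RingHom.ext fun a => Subtype.ext (Prod.ext rfl
    (congr($(πV.c.naturality i) a))))

variable [QuasiCompact p] [QuasiSeparated p] [QuasiCompact πV] [QuasiSeparated πV]

theorem isQC_presh : RelSpec.IsQC (presh p πV j hj) (str p πV j hj) := by
  intro U hU r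
  let A := RelSpec.QCAlg.unit Y
  let B := RelSpec.QCAlg.directImage πV
  let E := RelSpec.QCAlg.directImage p
  let rY := (Y.presheaf.map (homOfLE (Y.basicOpen_le r)).op).hom
  let rV := (V.presheaf.map (homOfLE (πV.preimage_mono (Y.basicOpen_le r))).op).hom
  let ρ := res p πV j hj (Y.basicOpen_le r)
  letI := ((presh p πV j hj).map (homOfLE (Y.basicOpen_le r)).op).hom.toAlgebra
  let sr : Sect p πV j hj U := ((str p πV j hj).app (op U)).hom r
  refine (isLocalization_iff _ _).mpr ⟨fun ⟨_, k, rfl⟩ => ?_, fun z => ?_, fun {x y} hxy => ?_⟩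
  · show IsUnit (ρ (sr ^ k))
    rw [map_pow]
    refine IsUnit.pow k ?_
    have : ρ sr = (show Sect p πV j hj (Y.basicOpen r) from ((str p πV j hj).app (op (Y.basicOpen r))).hom (rY r)) :=
      (congr($((str p πV j hj).naturality (homOfLE (Y.basicOpen_le r)).op) r)).symm
    rw [this]
    exact (RingedSpace.isUnit_res_basicOpen Y.toRingedSpace r).map ((str p πV j hj).app (op (Y.basicOpen r))).hom
  · obtain ⟨⟨a, v⟩, hz⟩ := (show Sect p πV j hj (Y.basicOpen r) from z)
    obtain ⟨k, t, ht⟩ : ∃ (k : ℕ) (t : Γ(Y, U)), a * rY r ^ k = rY t := QCAlg.exists_surj A hU r a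
    obtain ⟨k', t', ht'⟩ : ∃ (k : ℕ) (t : Γ(V, πV ⁻¹ᵁ U)), v * rV (πV.app U r) ^ k = rV t :=
      QCAlg.exists_surj B hU r v
    obtain ⟨m, hm⟩ := QCAlg.exists_eq_zero E hU r
      (p.app U (t * r ^ k') - jh p πV j hj U (t' * πV.app U r ^ k)) (by
        rw [map_sub, sub_eq_zero]
        refine (congr($(p.c.naturality (homOfLE (Y.basicOpen_le r)).op) _)).symm.trans
          (Eq.trans ?_ (congr($((jn p πV j hj).naturality (homOfLE (Y.basicOpen_le r)).op) _)))
        have h1 : rY (t * r ^ k') = a * rY r ^ (k + k') := by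
          rw [map_mul, map_pow, pow_add, ← mul_assoc]
          exact congrArg (fun w : Γ(Y, Y.basicOpen r) => w * rY r ^ k') ht.symm
        have h2 : rV (t' * πV.app U r ^ k) = v * πV.app (Y.basicOpen r) (rY r) ^ (k + k') := by
          rw [show πV.app (Y.basicOpen r) (rY r) = rV (πV.app U r) from
            congr($(πV.c.naturality (homOfLE (Y.basicOpen_le r)).op) r)]
          rw [map_mul, map_pow, add_comm, pow_add, ← mul_assoc]
          exact congrArg (fun w : Γ(V, πV ⁻¹ᵁ Y.basicOpen r) => w * rV (πV.app U r) ^ k) ht'.symm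
        have hz1 : (a, v) * (rY r, πV.app (Y.basicOpen r) (rY r)) ^ (k + k') ∈ Sect p πV j hj (Y.basicOpen r) :=
          mul_mem hz (pow_mem (str_mem p πV j hj _ _) _)
        exact (congrArg (p.app (Y.basicOpen r)) h1).trans
          (Eq.trans hz1 (congrArg (jh p πV j hj (Y.basicOpen r)) h2).symm))
    have hT : (r ^ m * (t * r ^ k'), πV.app U r ^ m * (t' * πV.app U r ^ k)) ∈ Sect p πV j hj U := by
      have hjr : jh p πV j hj U (πV.app U r) = p.app U r := (str_mem p πV j hj U r).symm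
      have hm' : (p.app U r : Γ(X, p ⁻¹ᵁ U)) ^ m *
          (p.app U (t * r ^ k') - jh p πV j hj U (t' * πV.app U r ^ k)) = 0 := hm
      rw [mem_sect]
      simp only [map_mul, map_pow, hjr] at hm' ⊢
      linear_combination hm'
    refine ⟨((⟨_, hT⟩ : Sect p πV j hj U), ⟨sr ^ (k + k' + m), _, rfl⟩), ?_⟩
    refine Subtype.ext (Prod.ext (?_ : a * rY (r ^ (k + k' + m)) = rY (r ^ m * (t * r ^ k')))
      (?_ : v * rV (πV.app U r ^ (k + k' + m)) = rV (πV.app U r ^ m * (t' * πV.app U r ^ k))))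
    · rw [map_mul, map_mul, map_pow, map_pow, map_pow, ← ht]
      ring
    · rw [map_mul, map_mul, map_pow, map_pow, map_pow, ← ht']
      ring
  · let x' : Sect p πV j hj U := x
    let y' : Sect p πV j hj U := y
    have hxy' : ρ x' = ρ y' := hxy
    obtain ⟨k, hk⟩ : ∃ k : ℕ, r ^ k * (x'.1.1 - y'.1.1) = 0 := QCAlg.exists_eq_zero A hU r _
      ((map_sub rY x'.1.1 y'.1.1).trans (sub_eq_zero.2 (congrArg (fun w : Sect p πV j hj (Y.basicOpen r) => w.1.1) hxy')))
    obtain ⟨k', hk'⟩ : ∃ k : ℕ, πV.app U r ^ k * (x'.1.2 - y'.1.2) = 0 := QCAlg.exists_eq_zero B hU r _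
      ((map_sub rV x'.1.2 y'.1.2).trans (sub_eq_zero.2 (congrArg (fun w : Sect p πV j hj (Y.basicOpen r) => w.1.2) hxy')))
    refine ⟨⟨sr ^ (k + k'), _, rfl⟩, ?_⟩
    refine Subtype.ext (Prod.ext (?_ : r ^ (k + k') * x'.1.1 = r ^ (k + k') * y'.1.1)
      (?_ : πV.app U r ^ (k + k') * x'.1.2 = πV.app U r ^ (k + k') * y'.1.2))
    · linear_combination r ^ k' * hk
    · linear_combination πV.app U r ^ k * hk'

/-- The algebra of pairs. -/
def qalg : RelSpec.QCAlg Y where
  presheaf := presh p πV j hj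
  isSheaf := isSheaf_presh p πV j hj
  str := str p πV j hj
  isQC := isQC_presh p πV j hj

end Groth.Agent.ContractX
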