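import Groth.Agent.ContractX.Expand
import Groth.Agent.AmpleX.Rel

/-!
# A contraction of the zero section gives ampleness
-/

universe u

open CategoryTheory CategoryTheory.Limits AlgebraicGeometry TopologicalSpace Opposite

set_option linter.style.haveILetI false
set_option backward.isDefEq.respectTransparency false
set_option backward.isDefEq.respectTransparency.types false

namespace Groth.Agent.ContractX

open Groth.Agent Groth.Agent.ProjQ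

theorem isRelAmple_of_contraction {X Y : Scheme.{u}} (p : X ⟶ Y) [QuasiCompact p] {L : X.Modules}
    (hL : PicF.IsInvertible L) (D : LB L) (V0 : D.V.Opens) (hV0 : (V0 : Set D.V) = (Set.range D.j0)ᶜ)
    {C : Scheme.{u}} (ε : Y ⟶ C) (q : D.V ⟶ C) (hj : D.j0 ≫ q = p ≫ ε) [IsOpenImmersion (V0.ι ≫ q)]
    (hdis : Set.range (V0.ι ≫ q) ∩ Set.range ε = ∅) : RelAmple.IsRelAmple p L := by
  refine AmpleX.isRelAmple_of_ampleOn fun x0 => ?_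
  obtain ⟨C'', hC, hyC, -⟩ := exists_affine_le (show ε (p x0) ∈ (⊤ : C.Opens) from trivial)
  obtain ⟨O, hO, hyO, hOC⟩ := exists_affine_le (show p x0 ∈ ε ⁻¹ᵁ C'' from hyC)
  refine ⟨O, _, (p ⁻¹ᵁ O).ι, inferInstance, hyO, le_of_eq (p ⁻¹ᵁ O).opensRange_ι.symm,
    (AmpleX.isAmple_restrict_iff _ hL).2 ⟨isCompact_iff_compactSpace.1 (QuasiCompact.isCompact_preimage _ O.isOpen hO.isCompact), fun z => ?_⟩⟩
  have hWO : (p ⁻¹ᵁ O).ι ''ᵁ ⊤ ≤ p ⁻¹ᵁ O := (p ⁻¹ᵁ O).ι_image_top.le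
  have hqj : ∀ x, q (D.j0 x) = ε (p x) := fun x => congr($hj x)
  have hW : (p ⁻¹ᵁ O).ι ''ᵁ ⊤ ≤ D.j0 ⁻¹ᵁ (q ⁻¹ᵁ C'') := fun x hx => by
    show q (D.j0 x) ∈ C''
    rw [hqj]
    exact hOC (hWO hx)
  obtain ⟨a, hxa, haW⟩ := exists_lineTriv_le hL
    (show (p ⁻¹ᵁ O).ι z ∈ (p ⁻¹ᵁ O).ι ''ᵁ ⊤ from Set.mem_image_of_mem _ trivial)
  have hmemV0 : ∀ v, v ∈ V0 ↔ v ∉ Set.range D.j0 := fun v => Set.ext_iff.1 hV0 v
  have hgV0 : D.gen a hxa ∈ V0 := (hmemV0 _).2 fun h =>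
    (D.mem_range_j0_iff a (D.gen_mem a hxa)).1 h (D.gen_mem_basicOpen_T a hxa)
  have hgC : D.gen a hxa ∈ q ⁻¹ᵁ C'' := D.gen_mem_of_j0_mem a hxa (hW (haW hxa))
  have hgN : q (D.gen a hxa) ∈ (V0.ι ≫ q) ''ᵁ (V0.ι ⁻¹ᵁ (D.π ⁻¹ᵁ a.1.1)) :=
    ⟨⟨D.gen a hxa, hgV0⟩, D.gen_mem a hxa, rfl⟩
  obtain ⟨φ, hφN, hgφ⟩ := hC.exists_basicOpen_le ⟨q (D.gen a hxa), hgN⟩ hgC
  let ψ : Γ(D.V, q ⁻¹ᵁ C'') := q.app C'' φ
  have hψ : D.V.basicOpen ψ = q ⁻¹ᵁ C.basicOpen φ := (q.preimage_basicOpen φ).symm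
  have hsub : ∀ w ∈ D.V.basicOpen ψ, D.π w ∈ a.1.1 ∧ w ∈ V0 := fun w hw => by
    rw [hψ] at hw
    obtain ⟨w', hw', he⟩ := hφN hw
    by_cases hwV : w ∈ V0
    · have : w' = ⟨w, hwV⟩ := (V0.ι ≫ q).isOpenEmbedding.injective he
      subst this
      exact ⟨hw', hwV⟩
    · obtain ⟨x', rfl⟩ := not_not.1 (fun h => hwV ((hmemV0 w).2 h))
      have h : ε (p x') ∈ Set.range (V0.ι ≫ q) ∩ Set.range ε := ⟨⟨w', he.trans (hqj x')⟩, ⟨p x', rfl⟩⟩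
      rw [hdis] at h
      exact absurd h (Set.notMem_empty _)
  obtain ⟨n, hn⟩ := (D.gen_mem_basicOpen_iff ψ a (D.isExp_exp ψ hW a haW) hxa).1 (by rw [hψ]; exact hgφ)
  have hn0 : n ≠ 0 := by
    rintro rfl
    have h := (hsub _ ((D.j0_mem_basicOpen_iff ψ a (D.isExp_exp ψ hW a haW) hxa).2 hn)).2
    exact (hmemV0 _).1 h ⟨_, rfl⟩
  have hloc : AmpleX.locus (D.expand ψ hW n hL) ≤ a.1.1 := fun x' hx' => by
    obtain ⟨b, hxb, hbW⟩ := exists_lineTriv_le hL (AmpleX.locus_le _ hx')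
    have h := (D.locus_expand ψ hW n hL b hbW).le ⟨hx', hxb⟩
    have h' := (hsub _ ((D.gen_mem_basicOpen_iff ψ b (D.isExp_exp ψ hW b hbW) hxb).2 ⟨n, h⟩)).1
    rwa [D.π_gen] at h'
  refine ⟨n, Nat.pos_of_ne_zero hn0, D.expand ψ hW n hL, ?_, ?_⟩
  · exact ((D.locus_expand ψ hW n hL a haW).ge hn).1
  · rw [← inf_eq_left.2 hloc, D.locus_expand ψ hW n hL a haW]
    exact a.1.2.basicOpen _

end Groth.Agent.ContractX
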