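import Groth.Agent.ContractX.Alg
import Groth.Agent.RelSpecX.Spec
import Mathlib.AlgebraicGeometry.Morphisms.ClosedImmersion

/-!
# The scheme obtained by contracting a subscheme to the base
-/

universe u

open CategoryTheory CategoryTheory.Limits AlgebraicGeometry TopologicalSpace Opposite

set_option linter.style.haveILetI false
set_option backward.isDefEq.respectTransparency false
set_option backward.isDefEq.respectTransparency.types false

noncomputable section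

namespace Groth.Agent.ContractX

open Groth.Agent

variable {X Y V : Scheme.{u}} (p : X ⟶ Y) (πV : V ⟶ Y) (j : X ⟶ V) (hj : j ≫ πV = p)
  [QuasiCompact p] [QuasiSeparated p] [QuasiCompact πV] [QuasiSeparated πV]

/-- The contracted scheme. -/
abbrev Ctr : Scheme.{u} := (qalg p πV j hj).spec

/-- Its structure map. -/
abbrev ctrπ : Ctr p πV j hj ⟶ Y := (qalg p πV j hj).π

/-- Functions on the contracted scheme over an affine open. -/
def sE (O : Y.Opens) (hO : IsAffineOpen O) :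
    Γ(Ctr p πV j hj, ctrπ p πV j hj ⁻¹ᵁ O) ≅ CommRingCat.of (Sect p πV j hj O) :=
  haveI := RelSpecX.isIso_gammaAff (qalg p πV j hj) O hO
  asIso ((qalg p πV j hj).gammaAff O hO)

/-- First projection. -/
def fstHom : presh p πV j hj ⟶ Y.presheaf where
  app O := CommRingCat.ofHom ((RingHom.fst _ _).comp (Sect p πV j hj O.unop).subtype)
  naturality _ _ _ := rfl

/-- Second projection. -/
def sndHom : presh p πV j hj ⟶ AffAlg.alg πV where
  app O := CommRingCat.ofHom ((RingHom.snd _ _).comp (Sect p πV j hj O.unop).subtype)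
  naturality _ _ _ := rfl

theorem π_c_fst : (qalg p πV j hj).π.c ≫ (qalg p πV j hj).gammaMap ≫ fstHom p πV j hj = (𝟙 Y : Y ⟶ Y).c := by
  refine (Category.assoc _ _ _).symm.trans ?_
  rw [(qalg p πV j hj).π_c_gammaMap]
  rfl

theorem π_c_snd : (qalg p πV j hj).π.c ≫ (qalg p πV j hj).gammaMap ≫ sndHom p πV j hj = πV.c := by
  refine (Category.assoc _ _ _).symm.trans ?_
  rw [(qalg p πV j hj).π_c_gammaMap]
  rfl

/-- The section. -/
def ctrε : Y ⟶ Ctr p πV j hj :=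
  RelSpecX.ofAlgHom (ctrπ p πV j hj) (𝟙 Y)
    ⟨(qalg p πV j hj).gammaMap ≫ fstHom p πV j hj, π_c_fst p πV j hj⟩

/-- The contraction. -/
def ctrq : V ⟶ Ctr p πV j hj :=
  RelSpecX.ofAlgHom (ctrπ p πV j hj) πV
    ⟨(qalg p πV j hj).gammaMap ≫ sndHom p πV j hj, π_c_snd p πV j hj⟩

theorem ctrε_π : ctrε p πV j hj ≫ ctrπ p πV j hj = 𝟙 Y := RelSpecX.ofAlgHom_comp _ _ _

theorem ctrq_π : ctrq p πV j hj ≫ ctrπ p πV j hj = πV := RelSpecX.ofAlgHom_comp _ _ _

theorem le_ctrε (O : Y.Opens) : O ≤ ctrε p πV j hj ⁻¹ᵁ (ctrπ p πV j hj ⁻¹ᵁ O) :=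
  (RelSpecX.preimage_eq _ _ _ (ctrε_π p πV j hj) O).le

theorem le_ctrq (O : Y.Opens) : πV ⁻¹ᵁ O ≤ ctrq p πV j hj ⁻¹ᵁ (ctrπ p πV j hj ⁻¹ᵁ O) :=
  (RelSpecX.preimage_eq _ _ _ (ctrq_π p πV j hj) O).le

theorem appLE_ctrε (O : Y.Opens) (hO : IsAffineOpen O) (c : Γ(Ctr p πV j hj, ctrπ p πV j hj ⁻¹ᵁ O)) :
    (ctrε p πV j hj).appLE _ O (le_ctrε p πV j hj O) c =
      (show Sect p πV j hj O from (sE p πV j hj O hO).hom c).1.1 := by
  have h := RelSpecX.appLE_ofAlgHom (ctrπ p πV j hj) (𝟙 Y)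
    ⟨(qalg p πV j hj).gammaMap ≫ fstHom p πV j hj, π_c_fst p πV j hj⟩ ⟨O, hO⟩ (le_ctrε p πV j hj O)
  refine congr($h c).trans ?_
  show (fstHom p πV j hj).app (op O) ((qalg p πV j hj).gammaMap.app (op O) c) = _
  rw [(qalg p πV j hj).gammaMap_app O hO]
  rfl

theorem appLE_ctrq (O : Y.Opens) (hO : IsAffineOpen O) (c : Γ(Ctr p πV j hj, ctrπ p πV j hj ⁻¹ᵁ O)) :
    (ctrq p πV j hj).appLE _ (πV ⁻¹ᵁ O) (le_ctrq p πV j hj O) c =
      (show Sect p πV j hj O from (sE p πV j hj O hO).hom c).1.2 := by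
  have h := RelSpecX.appLE_ofAlgHom (ctrπ p πV j hj) πV
    ⟨(qalg p πV j hj).gammaMap ≫ sndHom p πV j hj, π_c_snd p πV j hj⟩ ⟨O, hO⟩ (le_ctrq p πV j hj O)
  refine congr($h c).trans ?_
  show (sndHom p πV j hj).app (op O) ((qalg p πV j hj).gammaMap.app (op O) c) = _
  rw [(qalg p πV j hj).gammaMap_app O hO]
  rfl

theorem comp_ctrq : j ≫ ctrq p πV j hj = p ≫ ctrε p πV j hj := by
  refine RelSpecX.algHom_injective (ctrπ p πV j hj) p (by rw [Category.assoc, ctrq_π, hj])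
    (by rw [Category.assoc, ctrε_π, Category.comp_id]) fun U => ?_
  rw [RelSpecX.algHom_app, RelSpecX.algHom_app,
    ← Scheme.Hom.appLE_comp_appLE j (ctrq p πV j hj) _ (πV ⁻¹ᵁ U.1) (p ⁻¹ᵁ U.1) (le_ctrq p πV j hj U.1)
      (RelSpecX.preimage_eq πV p j hj U.1).le,
    ← Scheme.Hom.appLE_comp_appLE p (ctrε p πV j hj) _ U.1 (p ⁻¹ᵁ U.1) (le_ctrε p πV j hj U.1) le_rfl]
  refine CommRingCat.hom_ext (RingHom.ext fun c => ?_)
  simp only [CommRingCat.hom_comp, RingHom.comp_apply]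
  rw [appLE_ctrq p πV j hj U.1 U.2, appLE_ctrε p πV j hj U.1 U.2, ← Scheme.Hom.app_eq_appLE,
    ← RelSpecX.algHom_app πV p j hj U.1]
  exact ((show Sect p πV j hj U.1 from (sE p πV j hj U.1 U.2).hom c).2).symm

theorem preimage_basicOpen_ctrε {O : Y.Opens} (hO : IsAffineOpen O)
    (c : Γ(Ctr p πV j hj, ctrπ p πV j hj ⁻¹ᵁ O)) :
    ctrε p πV j hj ⁻¹ᵁ (Ctr p πV j hj).basicOpen c =
      Y.basicOpen (show Sect p πV j hj O from (sE p πV j hj O hO).hom c).1.1 := by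
  rw [← appLE_ctrε p πV j hj O hO c, Scheme.basicOpen_appLE]
  exact (inf_eq_right.2 (((ctrε p πV j hj).preimage_mono ((Ctr p πV j hj).basicOpen_le c)).trans
    (RelSpecX.preimage_eq _ _ _ (ctrε_π p πV j hj) O).ge)).symm

theorem preimage_basicOpen_ctrq {O : Y.Opens} (hO : IsAffineOpen O)
    (c : Γ(Ctr p πV j hj, ctrπ p πV j hj ⁻¹ᵁ O)) :
    ctrq p πV j hj ⁻¹ᵁ (Ctr p πV j hj).basicOpen c =
      V.basicOpen (show Sect p πV j hj O from (sE p πV j hj O hO).hom c).1.2 := by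
  rw [← appLE_ctrq p πV j hj O hO c, Scheme.basicOpen_appLE]
  exact (inf_eq_right.2 (((ctrq p πV j hj).preimage_mono ((Ctr p πV j hj).basicOpen_le c)).trans
    (RelSpecX.preimage_eq _ _ _ (ctrq_π p πV j hj) O).ge)).symm

/-- If the contraction has closed image, the images of the contraction and of the section cover. -/
theorem range_union (hq : IsClosed (Set.range (ctrq p πV j hj))) :
    Set.range (ctrq p πV j hj) ∪ Set.range (ctrε p πV j hj) = Set.univ := by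
  haveI : IsClosedImmersion (ctrε p πV j hj ≫ ctrπ p πV j hj) := by rw [ctrε_π]; infer_instance
  haveI : IsClosedImmersion (ctrε p πV j hj) := IsClosedImmersion.of_comp _ (ctrπ p πV j hj)
  refine Set.eq_univ_of_forall fun c => ?_
  by_contra hc
  rw [Set.mem_union, not_or] at hc
  obtain ⟨_, ⟨O, hO, rfl⟩, hcO, -⟩ := Y.isBasis_affineOpens.exists_subset_of_mem_open
    (show ctrπ p πV j hj c ∈ Set.univ from trivial) isOpen_univ
  have hA := hO.preimage (ctrπ p πV j hj)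
  obtain ⟨f1, hf1, hc1⟩ := hA.exists_basicOpen_le (V := ⟨_, hq.isOpen_compl⟩) ⟨c, hc.1⟩ hcO
  obtain ⟨f2, hf2, hc2⟩ := hA.exists_basicOpen_le
    (V := ⟨_, (ctrε p πV j hj).isClosedEmbedding.isClosed_range.isOpen_compl⟩) ⟨c, hc.2⟩ hcO
  let z := fun c => (show Sect p πV j hj O from (sE p πV j hj O hO).hom c)
  obtain ⟨k1, hk1⟩ : IsNilpotent (z f1).1.2 := by
    refine (Scheme.isNilpotent_iff_basicOpen_eq_bot_of_isCompact
      (QuasiCompact.isCompact_preimage _ O.isOpen hO.isCompact) _).2 ?_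
    rw [← preimage_basicOpen_ctrq p πV j hj hO f1]
    exact eq_bot_iff.2 fun v hv => absurd (Set.mem_range_self v) (hf1 hv)
  obtain ⟨k2, hk2⟩ : IsNilpotent (z f2).1.1 := by
    refine (Scheme.isNilpotent_iff_basicOpen_eq_bot_of_isCompact hO.isCompact _).2 ?_
    rw [← preimage_basicOpen_ctrε p πV j hj hO f2]
    exact eq_bot_iff.2 fun v hv => absurd (Set.mem_range_self v) (hf2 hv)
  have h0 : (sE p πV j hj O hO).hom ((f1 * f2) ^ (k1 + k2)) = (sE p πV j hj O hO).hom 0 := by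
    rw [map_pow, map_mul, map_zero]
    refine Subtype.ext (Prod.ext ?_ ?_)
    · show ((z f1).1.1 * (z f2).1.1) ^ (k1 + k2) = 0
      rw [mul_pow, pow_add (z f2).1.1, hk2, mul_zero, mul_zero]
    · show ((z f1).1.2 * (z f2).1.2) ^ (k1 + k2) = 0
      rw [mul_pow, pow_add, hk1, zero_mul, zero_mul]
  have hnil : IsNilpotent (f1 * f2) :=
    ⟨k1 + k2, ((ConcreteCategory.isIso_iff_bijective (sE p πV j hj O hO).hom).1 inferInstance).1 h0⟩
  have := (Scheme.isNilpotent_iff_basicOpen_eq_bot_of_isCompact hA.isCompact _).1 hnil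
  have hmem : c ∈ (Ctr p πV j hj).basicOpen (f1 * f2) := by
    rw [Scheme.basicOpen_mul]; exact ⟨hc1, hc2⟩
  rw [this] at hmem
  exact hmem

end Groth.Agent.ContractX
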