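import Groth.Agent.ContractX.LB
import Groth.Agent.AmpleX.Locus
import Mathlib.RingTheory.PowerSeries.Inverse

/-!
# Expansion of functions along the zero section
-/

universe u

open CategoryTheory CategoryTheory.Limits AlgebraicGeometry TopologicalSpace Opposite Polynomial

set_option linter.style.haveILetI false
set_option linter.unusedSectionVars false
set_option backward.isDefEq.respectTransparency false
set_option backward.isDefEq.respectTransparency.types false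

noncomputable section

namespace Groth.Agent.ContractX

open Groth.Agent Groth.Agent.ProjQ

theorem mem_basicOpen_iff_notMem_primeIdealOf {X : Scheme.{u}} {U : X.Opens} (hU : IsAffineOpen U) {x : X}
    (hx : x ∈ U) (f : Γ(X, U)) : x ∈ X.basicOpen f ↔ f ∉ (hU.primeIdealOf ⟨x, hx⟩).asIdeal := by
  refine (iff_of_eq (congrArg (fun z => z ∈ X.basicOpen f) (hU.fromSpec_primeIdealOf ⟨x, hx⟩).symm)).trans ?_
  show (hU.primeIdealOf ⟨x, hx⟩) ∈ hU.fromSpec ⁻¹ᵁ X.basicOpen f ↔ _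
  rw [hU.fromSpec_preimage_basicOpen]
  exact Iff.rfl

namespace LB

variable {X : Scheme.{u}} {L : X.Modules} (D : LB L) {Q : D.V.Opens} (ψ : Γ(D.V, Q))

/-- `s` is the expansion of `ψ` along the zero section, in the coordinate of the frame `a`. -/
def IsExp (a : LineTriv L) (s : PowerSeries Γ(X, a.1.1)) : Prop :=
  ∃ (h g : Γ(X, a.1.1)[X]) (m : ℕ) (hh : D.V.basicOpen (D.ev a h) ≤ Q), h.coeff 0 = 1 ∧
    AModX.resR hh ψ * AModX.resR (D.V.basicOpen_le _) (D.ev a h) ^ m =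
      AModX.resR (D.V.basicOpen_le _) (D.ev a g) ∧
    (g : PowerSeries Γ(X, a.1.1)) = s * (h : PowerSeries Γ(X, a.1.1)) ^ m

theorem isUnit_coe {A : Type*} [CommRing A] {h : A[X]} (h1 : h.coeff 0 = 1) : IsUnit (h : PowerSeries A) :=
  PowerSeries.isUnit_iff_constantCoeff.2 (by rw [Polynomial.constantCoeff_coe, h1]; exact isUnit_one)

theorem isExp_unique (a : LineTriv L) {s s' : PowerSeries Γ(X, a.1.1)} (hs : D.IsExp ψ a s)
    (hs' : D.IsExp ψ a s') : s = s' := by
  obtain ⟨h, g, m, hh, h1, he, hg⟩ := hs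
  obtain ⟨h', g', m', hh', h1', he', hg'⟩ := hs'
  let o := D.V.basicOpen (D.ev a (h * h'))
  have ho : o ≤ D.V.basicOpen (D.ev a h) ⊓ D.V.basicOpen (D.ev a h') :=
    le_of_eq ((congrArg D.V.basicOpen (map_mul (D.ev a) h h')).trans (D.V.basicOpen_mul _ _))
  have e1 := congrArg (AModX.resR (ho.trans inf_le_left)) he
  have e2 := congrArg (AModX.resR (ho.trans inf_le_right)) he'
  simp only [map_mul, map_pow, AModX.resR_resR] at e1 e2
  have hz : AModX.resR (D.V.basicOpen_le (D.ev a (h * h'))) (D.ev a (g * h' ^ m' - g' * h ^ m)) = 0 := by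
    simp only [map_sub, map_mul, map_pow]
    exact (congrArg₂ (· - ·) (congrArg (· * _) e1.symm) (congrArg (· * _) e2.symm)).trans (by ring)
  obtain ⟨N, hN⟩ := exists_pow_mul_eq_zero_of_res_basicOpen_eq_zero_of_isCompact D.V
    (D.isAffineOpen_piece a).isCompact _ (D.ev a (h * h')) hz
  rw [← map_pow, ← map_mul, ← map_zero (D.ev a)] at hN
  have h0 := congrArg (Polynomial.coeToPowerSeries.ringHom (R := Γ(X, a.1.1))) ((D.ev_bijective a).1 hN)
  simp only [map_mul, map_pow, map_sub, map_zero, Polynomial.coeToPowerSeries.ringHom_apply] at h0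
  rw [hg, hg'] at h0
  have hu := (((isUnit_coe h1).mul (isUnit_coe h1')).pow N)
  rw [IsUnit.mul_right_eq_zero hu, sub_eq_zero] at h0
  refine ((isUnit_coe h1).pow m).mul_right_cancel (((isUnit_coe h1').pow m').mul_right_cancel ?_)
  rw [h0]
  ring

/-- Near the zero section, opens contain standard opens of functions with constant term one. -/
theorem exists_one_add (a : LineTriv L) (ha : a.1.1 ≤ D.j0 ⁻¹ᵁ Q) :
    ∃ h : Γ(X, a.1.1)[X], h.coeff 0 = 1 ∧ D.V.basicOpen (D.ev a h) ≤ Q := by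
  have hP := D.isAffineOpen_piece a
  let S : Set Γ(D.V, D.π ⁻¹ᵁ a.1.1) := {f | D.V.basicOpen f ≤ Q}
  have htop : Ideal.span S ⊔ Ideal.span {D.T a} = ⊤ := by
    by_contra hne
    obtain ⟨M, hM, hle⟩ := Ideal.exists_le_maximal _ hne
    let P : PrimeSpectrum Γ(D.V, D.π ⁻¹ᵁ a.1.1) := ⟨M, hM.isPrime⟩
    have hvU : hP.fromSpec P ∈ D.π ⁻¹ᵁ a.1.1 := hP.range_fromSpec.le (Set.mem_range_self _)
    have hmem : ∀ f, hP.fromSpec P ∈ D.V.basicOpen f ↔ f ∉ M := fun f => by
      show P ∈ hP.fromSpec ⁻¹ᵁ D.V.basicOpen f ↔ _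
      rw [hP.fromSpec_preimage_basicOpen]
      exact Iff.rfl
    have hT : hP.fromSpec P ∉ D.V.basicOpen (D.T a) := fun h =>
      (hmem _).1 h (hle (Submodule.mem_sup_right (Ideal.mem_span_singleton_self _)))
    obtain ⟨x, hx⟩ := (D.mem_range_j0_iff a hvU).2 hT
    have hxU : x ∈ a.1.1 := by
      have e : D.π (D.j0 x) = x := by
        show (D.j0 ≫ D.π) x = x
        rw [D.j0π]; rfl
      rw [← e, hx]
      exact hvU
    obtain ⟨f, hf, hvf⟩ := hP.exists_basicOpen_le ⟨hP.fromSpec P, show hP.fromSpec P ∈ Q from hx ▸ ha hxU⟩ hvU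
    exact (hmem f).1 hvf (hle (Submodule.mem_sup_left (Ideal.subset_span hf)))
  obtain ⟨i, hi, z, hz, hiz⟩ := Submodule.mem_sup.1 (htop.ge (Submodule.mem_top : (1 : Γ(D.V, D.π ⁻¹ᵁ a.1.1)) ∈ ⊤))
  obtain ⟨w, rfl⟩ := Ideal.mem_span_singleton'.1 hz
  obtain ⟨c, rfl⟩ := (D.ev_bijective a).2 w
  have hic : i = D.ev a (1 - c * Polynomial.X) := by
    rw [map_sub, map_one, map_mul, D.ev_X, ← hiz]
    ring
  subst hic
  refine ⟨1 - c * Polynomial.X, by simp, fun v hv => ?_⟩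
  by_contra hvQ
  have hvU := D.V.basicOpen_le _ hv
  refine (mem_basicOpen_iff_notMem_primeIdealOf hP hvU _).1 hv (Ideal.span_le.2 (fun f hf => ?_) hi)
  by_contra hfP
  exact hvQ (hf ((mem_basicOpen_iff_notMem_primeIdealOf hP hvU f).2 hfP))

theorem exists_isExp (a : LineTriv L) (ha : a.1.1 ≤ D.j0 ⁻¹ᵁ Q) : ∃ s, D.IsExp ψ a s := by
  obtain ⟨h, h1, hh⟩ := D.exists_one_add a ha
  haveI := (D.isAffineOpen_piece a).isLocalization_basicOpen (D.ev a h)
  obtain ⟨⟨w, _, m, rfl⟩, e⟩ := IsLocalization.surj (Submonoid.powers (D.ev a h))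
    (AModX.resR hh ψ : Γ(D.V, D.V.basicOpen (D.ev a h)))
  obtain ⟨g, rfl⟩ := (D.ev_bijective a).2 w
  obtain ⟨v, hv⟩ := (isUnit_coe h1).pow m
  refine ⟨(g : PowerSeries Γ(X, a.1.1)) * ↑v⁻¹, h, g, m, hh, h1, ?_, ?_⟩
  · rw [← map_pow]
    exact e
  · rw [← hv, mul_assoc, Units.inv_mul, mul_one]

theorem isExp_restr (a : LineTriv L) {W : X.Opens} (hW : IsAffineOpen W) (i : W ≤ a.1.1)
    {s : PowerSeries Γ(X, a.1.1)} (hs : D.IsExp ψ a s) :
    D.IsExp ψ (a.restr hW i) (PowerSeries.map (AModX.resR i) s) := by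
  obtain ⟨h, g, m, hh, h1, he, hg⟩ := hs
  have hb : D.V.basicOpen (D.ev (a.restr hW i) (h.map (AModX.resR i))) ≤ D.V.basicOpen (D.ev a h) := by
    rw [← D.res_ev]
    exact (D.V.basicOpen_res _ _).trans_le inf_le_right
  refine ⟨h.map (AModX.resR i), g.map (AModX.resR i), m, hb.trans hh, ?_, ?_, ?_⟩
  · rw [Polynomial.coeff_map, h1, map_one]
  · have e := congrArg (AModX.resR hb) he
    simp only [map_mul, map_pow, AModX.resR_resR] at e
    have k : ∀ p : Γ(X, a.1.1)[X], AModX.resR (D.V.basicOpen_le _) (D.ev (a.restr hW i) (p.map (AModX.resR i))) =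
        AModX.resR (hb.trans (D.V.basicOpen_le _)) (D.ev a p) := fun p => by
      exact (congrArg _ (D.res_ev a hW i p).symm).trans (AModX.resR_resR _ _ _)
    exact (congrArg (fun t => AModX.resR (hb.trans hh) ψ * t ^ m) (k h)).trans (e.trans (k g).symm)
  · have := congrArg (PowerSeries.map (AModX.resR i)) hg
    rw [map_mul, map_pow] at this
    rw [Polynomial.polynomial_map_coe, Polynomial.polynomial_map_coe]
    exact this

theorem coe_comp_C_mul_X {A : Type*} [CommRing A] (u : A) (p : A[X]) :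
    ((p.comp (Polynomial.C u * Polynomial.X) : A[X]) : PowerSeries A) = PowerSeries.rescale u (p : PowerSeries A) := by
  ext n
  rw [PowerSeries.coeff_rescale, Polynomial.coeff_coe, Polynomial.coeff_coe, Polynomial.comp_C_mul_X_coeff, mul_comm]

theorem isExp_rescale (a : LineTriv L) (u : Γ(X, a.1.1)) (hu : InvX.IsFrame (u • a.2.1))
    {s : PowerSeries Γ(X, a.1.1)} (hs : D.IsExp ψ ⟨a.1, u • a.2.1, hu⟩ s) :
    D.IsExp ψ a (PowerSeries.rescale u s) := by
  obtain ⟨h, g, m, hh, h1, he, hg⟩ := hs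
  have hb : D.V.basicOpen (D.ev a (h.comp (Polynomial.C u * Polynomial.X))) ≤
      D.V.basicOpen (D.ev ⟨a.1, u • a.2.1, hu⟩ h) := by rw [D.ev_smul a u hu]
  refine ⟨h.comp (Polynomial.C u * Polynomial.X), g.comp (Polynomial.C u * Polynomial.X), m, hb.trans hh, ?_, ?_, ?_⟩
  · rw [Polynomial.comp_C_mul_X_coeff, h1, one_mul, pow_zero]
  · have e := congrArg (AModX.resR hb) he
    simp only [map_mul, map_pow, AModX.resR_resR] at e
    simp only [← D.ev_smul a u hu]
    exact e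
  · have := congrArg (PowerSeries.rescale u) hg
    rw [map_mul, map_pow] at this
    rw [coe_comp_C_mul_X, coe_comp_C_mul_X]
    exact this

variable {W : X.Opens} (hW : W ≤ D.j0 ⁻¹ᵁ Q)

/-- The expansion. -/
def exp (a : LineTriv L) (ha : a.1.1 ≤ W) : PowerSeries Γ(X, a.1.1) :=
  (D.exists_isExp ψ a (ha.trans hW)).choose

theorem isExp_exp (a : LineTriv L) (ha : a.1.1 ≤ W) : D.IsExp ψ a (D.exp ψ hW a ha) :=
  (D.exists_isExp ψ a (ha.trans hW)).choose_spec

theorem res_coeff_smul_pw (n : ℕ) (a b : LineTriv L) (ha : a.1.1 ≤ W) (hb : b.1.1 ≤ W) {Z : X.Opens}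
    (hZ : IsAffineOpen Z) (ia : Z ≤ a.1.1) (ib : Z ≤ b.1.1) :
    AModX.res (CohB1.tensorPow L n) ia (PowerSeries.coeff n (D.exp ψ hW a ha) • pw a.2.1 n) =
      AModX.res (CohB1.tensorPow L n) ib (PowerSeries.coeff n (D.exp ψ hW b hb) • pw b.2.1 n) := by
  obtain ⟨u, hu⟩ := a.2.2.exists_coord ia (AModX.res L ib b.2.1)
  have hf : InvX.IsFrame (u • AModX.res L ia a.2.1) := hu ▸ b.2.2.res ib
  have hA := D.isExp_restr ψ a hZ ia (D.isExp_exp ψ hW a ha)
  have hB := D.isExp_restr ψ b hZ ib (D.isExp_exp ψ hW b hb)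
  have hB' : D.IsExp ψ ⟨⟨Z, hZ⟩, u • AModX.res L ia a.2.1, hf⟩
      (PowerSeries.map (AModX.resR ib) (D.exp ψ hW b hb)) :=
    (show ∀ (e : Γ(L, Z)) (he : InvX.IsFrame e) (_ : e = u • AModX.res L ia a.2.1) (s : PowerSeries Γ(X, Z)),
        D.IsExp ψ ⟨⟨Z, hZ⟩, e, he⟩ s → D.IsExp ψ ⟨⟨Z, hZ⟩, u • AModX.res L ia a.2.1, hf⟩ s from
      fun e he h s hs => by subst h; exact hs) _ (b.2.2.res ib) hu _ hB
  have key := D.isExp_unique ψ (a.restr hZ ia) hA (D.isExp_rescale ψ (a.restr hZ ia) u hf hB')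
  have hn := congrArg (PowerSeries.coeff n) key
  have hn : AModX.resR ia (PowerSeries.coeff n (D.exp ψ hW a ha)) =
      u ^ n * AModX.resR ib (PowerSeries.coeff n (D.exp ψ hW b hb)) :=
    (PowerSeries.coeff_map _ _ _).symm.trans
      (hn.trans ((PowerSeries.coeff_rescale _ _ _).trans (congrArg (u ^ n * ·) (PowerSeries.coeff_map _ _ _))))
  rw [AModX.res_smul, AModX.res_smul, res_pw, res_pw, hu, pw_smul, ← mul_smul, hn, mul_comm]

theorem existsUnique_expand (n : ℕ) (hL : PicF.IsInvertible L) :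
    ∃! t : Γ(CohB1.tensorPow L n, W), ∀ a : {a : LineTriv L // a.1.1 ≤ W},
      AModX.res (CohB1.tensorPow L n) a.2 t = PowerSeries.coeff n (D.exp ψ hW a.1 a.2) • pw a.1.2.1 n := by
  refine AModX.existsUnique_glue (fun a : {a : LineTriv L // a.1.1 ≤ W} => a.1.1.1) (fun a => a.2)
    (fun x hx => ?_) _ fun a b => ?_
  · obtain ⟨a, ha, hle⟩ := exists_lineTriv_le hL hx
    exact ⟨⟨a, hle⟩, ha⟩
  · refine AModX.eq_of_locally _ _ fun x hx => ?_
    obtain ⟨Z, hZ, hxZ, hle⟩ := exists_affine_le hx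
    refine ⟨Z, hle, hxZ, ?_⟩
    rw [AModX.res_res, AModX.res_res]
    exact D.res_coeff_smul_pw ψ hW n a.1 b.1 a.2 b.2 hZ (hle.trans inf_le_left) (hle.trans inf_le_right)

/-- The coefficient of degree `n` of the expansion, a section of the `n`-th power. -/
def expand (n : ℕ) (hL : PicF.IsInvertible L) : Γ(CohB1.tensorPow L n, W) :=
  (D.existsUnique_expand ψ hW n hL).choose

theorem res_expand (n : ℕ) (hL : PicF.IsInvertible L) (a : LineTriv L) (ha : a.1.1 ≤ W) :
    AModX.res (CohB1.tensorPow L n) ha (D.expand ψ hW n hL) =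
      PowerSeries.coeff n (D.exp ψ hW a ha) • pw a.2.1 n :=
  (D.existsUnique_expand ψ hW n hL).choose_spec.1 ⟨a, ha⟩

theorem locus_expand (n : ℕ) (hL : PicF.IsInvertible L) (a : LineTriv L) (ha : a.1.1 ≤ W) :
    AmpleX.locus (D.expand ψ hW n hL) ⊓ a.1.1 = X.basicOpen (PowerSeries.coeff n (D.exp ψ hW a ha)) :=
  AmpleX.locus_inf _ ha (isFrame_pw a.2.2 n) (D.res_expand ψ hW n hL a ha)

theorem mem_basicOpen_iff_of_isExp {a : LineTriv L} {h g : Γ(X, a.1.1)[X]} {m : ℕ}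
    {hh : D.V.basicOpen (D.ev a h) ≤ Q}
    (he : AModX.resR hh ψ * AModX.resR (D.V.basicOpen_le _) (D.ev a h) ^ m =
      AModX.resR (D.V.basicOpen_le _) (D.ev a g)) {v : D.V} (hv : v ∈ D.V.basicOpen (D.ev a h)) :
    v ∈ D.V.basicOpen ψ ↔ v ∈ D.V.basicOpen (D.ev a g) := by
  have h2 := congrArg (fun t => v ∈ D.V.basicOpen t) he
  have hu := (RingedSpace.isUnit_res_basicOpen D.V.toRingedSpace (D.ev a h)).pow m
  simp only [Scheme.basicOpen_mul] at h2
  rw [show D.V.basicOpen (AModX.resR (D.V.basicOpen_le (D.ev a h)) (D.ev a h) ^ m) =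
      D.V.basicOpen (D.ev a h) from D.V.basicOpen_of_isUnit hu] at h2
  simp only [AModX.resR, Opens.mem_inf] at h2
  erw [D.V.basicOpen_res, D.V.basicOpen_res] at h2
  simpa [hv] using h2

/-- The zero section and the constant term of the expansion. -/
theorem j0_mem_basicOpen_iff (a : LineTriv L) {s : PowerSeries Γ(X, a.1.1)} (hs : D.IsExp ψ a s) {x : X}
    (hx : x ∈ a.1.1) : D.j0 x ∈ D.V.basicOpen ψ ↔ x ∈ X.basicOpen (PowerSeries.coeff 0 s) := by
  obtain ⟨h, g, m, hh, h1, he, hg⟩ := hs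
  rw [D.mem_basicOpen_iff_of_isExp ψ he ((D.j0_mem_basicOpen_ev a h hx).2 (by
    rw [h1, X.basicOpen_of_isUnit isUnit_one]; exact hx)), D.j0_mem_basicOpen_ev a g hx]
  have e := congrArg PowerSeries.constantCoeff hg
  rw [map_mul, map_pow, Polynomial.constantCoeff_coe, Polynomial.constantCoeff_coe, h1, one_pow, mul_one] at e
  rw [e, PowerSeries.coeff_zero_eq_constantCoeff]

/-- The generic point of a fibre line and the expansion. -/
theorem gen_mem_basicOpen_iff (a : LineTriv L) {s : PowerSeries Γ(X, a.1.1)} (hs : D.IsExp ψ a s) {x : X}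
    (hx : x ∈ a.1.1) : D.gen a hx ∈ D.V.basicOpen ψ ↔ ∃ n, x ∈ X.basicOpen (PowerSeries.coeff n s) := by
  obtain ⟨h, g, m, hh, h1, he, hg⟩ := hs
  have hu : IsUnit ((↑(h.map (X.evaluation a.1.1 x hx).hom) : PowerSeries (X.residueField x)) ^ m) :=
    (isUnit_coe (by rw [Polynomial.coeff_map, h1, map_one])).pow m
  have hgen : D.gen a hx ∈ D.V.basicOpen (D.ev a h) := by
    rw [gen_mem_basicOpen, fibEval_ev]
    intro h0
    have := congrArg (fun p => Polynomial.coeff p 0) h0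
    simp [h1] at this
  rw [D.mem_basicOpen_iff_of_isExp ψ he hgen, gen_mem_basicOpen, fibEval_ev, Ne, ← Polynomial.coe_eq_zero_iff,
    Polynomial.polynomial_map_coe, hg, map_mul, map_pow, ← Polynomial.polynomial_map_coe, IsUnit.mul_left_eq_zero hu]
  constructor
  · intro hne
    by_contra hno
    push Not at hno
    refine hne (PowerSeries.ext fun n => ?_)
    rw [PowerSeries.coeff_map, map_zero]
    exact not_not.1 fun h' => hno n ((X.evaluation_ne_zero_iff_mem_basicOpen x hx _).1 h')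
  · rintro ⟨n, hn⟩ h0
    refine (X.evaluation_ne_zero_iff_mem_basicOpen x hx _).2 hn ?_
    rw [← PowerSeries.coeff_map, h0, map_zero]

theorem gen_mem_of_j0_mem (a : LineTriv L) {x : X} (hx : x ∈ a.1.1) {O : D.V.Opens} (hO : D.j0 x ∈ O) :
    D.gen a hx ∈ O := by
  obtain ⟨f, hf, hxf⟩ := (D.isAffineOpen_piece a).exists_basicOpen_le ⟨D.j0 x, hO⟩ (D.le_j0 _ hx)
  refine hf ((D.gen_mem_basicOpen a hx f).2 fun h0 => ?_)
  obtain ⟨p, rfl⟩ := (D.ev_bijective a).2 f
  rw [fibEval_ev] at h0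
  have := congrArg (fun q => Polynomial.coeff q 0) h0
  simp only [Polynomial.coeff_map, Polynomial.coeff_zero] at this
  exact (X.evaluation_ne_zero_iff_mem_basicOpen x hx _).2 ((D.j0_mem_basicOpen_ev a p hx).1 hxf) this

end LB

end Groth.Agent.ContractX
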