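import Groth.Agent.ContractX.Proper
import Groth.Agent.S3567
import Mathlib.Topology.Sheaves.SheafCondition.Sites
import Mathlib.RingTheory.Localization.Basic

/-!
# Factorisation of contractions through the spectrum of the direct image
-/

universe u

open CategoryTheory CategoryTheory.Limits AlgebraicGeometry TopologicalSpace Opposite

set_option linter.style.haveILetI false
set_option linter.unusedSectionVars false
set_option backward.isDefEq.respectTransparency false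
set_option backward.isDefEq.respectTransparency.types false

noncomputable section

namespace Groth.Agent.ContractX

open Groth.Agent Groth.Agent.ProjQ

theorem bijective_of_away {R R' S S' : Type*} [CommRing R] [CommRing R'] [CommRing S] [CommRing S'] [Algebra R S]
    [Algebra R' S'] (s : R) [IsLocalization.Away s S] (φ : R →+* R') (hφ : Function.Bijective φ)
    [IsLocalization.Away (φ s) S'] (θ : S →+* S')
    (h : ∀ r, θ (algebraMap R S r) = algebraMap R' S' (φ r)) : Function.Bijective θ := by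
  have H : Submonoid.map (RingEquiv.ofBijective φ hφ : R ≃+* R').toMonoidHom (Submonoid.powers s) =
      Submonoid.powers (φ s) := Submonoid.map_powers _ s
  have e : θ = (IsLocalization.ringEquivOfRingEquiv S S' (RingEquiv.ofBijective φ hφ) H : S ≃+* S').toRingHom :=
    IsLocalization.ringHom_ext (Submonoid.powers s) (RingHom.ext fun r => by
      rw [RingHom.comp_apply, RingHom.comp_apply, h]
      exact (IsLocalization.ringEquivOfRingEquiv_eq H r).symm)
  rw [e]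
  exact (IsLocalization.ringEquivOfRingEquiv S S' (RingEquiv.ofBijective φ hφ) H).bijective

/-- A morphism to a scheme affine over the base is `O`-connected if it is so over the base. -/
theorem isIso_c_of_isIso_algHom {V C S : Scheme.{u}} (f : V ⟶ C) (g : C ⟶ S) [IsAffineHom g] (πV : V ⟶ S)
    (w : f ≫ g = πV) [QuasiCompact πV] [QuasiSeparated πV] [IsIso (AffAlg.algHom g πV f w)] : IsIso f.c := by
  let B : (Σ O : S.affineOpens, Γ(C, g ⁻¹ᵁ O.1)) → Opens C := fun i => C.basicOpen i.2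
  have hB : Opens.IsBasis (Set.range B) := by
    refine Opens.isBasis_iff_nbhd.2 fun {U x} hx => ?_
    obtain ⟨_, ⟨O, hO, rfl⟩, hxO, -⟩ :=
      S.isBasis_affineOpens.exists_subset_of_mem_open (Set.mem_univ (g x)) isOpen_univ
    obtain ⟨s, hs, hxs⟩ := (hO.preimage g).exists_basicOpen_le ⟨x, hx⟩ hxO
    exact ⟨_, ⟨⟨⟨O, hO⟩, s⟩, rfl⟩, hxs, hs⟩
  let φ : C.sheaf ⟶ (TopCat.Sheaf.pushforward _ f.base).obj V.sheaf := ⟨f.c⟩
  have : IsIso φ := by
    refine TopCat.Sheaf.isIso_iff_isIso_basis hB fun i => ?_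
    obtain ⟨⟨O, hO⟩, s⟩ := i
    show IsIso (f.app (C.basicOpen s))
    have hpre : f ⁻¹ᵁ (g ⁻¹ᵁ O) = πV ⁻¹ᵁ O := by rw [← w]; rfl
    let φ0 := (f.appLE (g ⁻¹ᵁ O) (πV ⁻¹ᵁ O) hpre.ge).hom
    have hφ0 : Function.Bijective φ0 := by
      have h : IsIso ((AffAlg.algHom g πV f w).app (op O)) := inferInstance
      rw [RelSpecX.algHom_app] at h
      exact (ConcreteCategory.isIso_iff_bijective _).1 h
    let rC := (C.presheaf.map (homOfLE (C.basicOpen_le s)).op).hom
    let rV := (V.presheaf.map (homOfLE (V.basicOpen_le (φ0 s))).op).hom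
    letI := rC.toAlgebra
    haveI : IsLocalization.Away s Γ(C, C.basicOpen s) := (hO.preimage g).isLocalization_basicOpen s
    letI := rV.toAlgebra
    haveI : IsLocalization.Away (φ0 s) Γ(V, V.basicOpen (φ0 s)) :=
      isLocalization_basicOpen_of_qcqs (πV.isCompact_preimage hO.isCompact)
        (πV.isQuasiSeparated_preimage hO.isQuasiSeparated) _
    have he : V.basicOpen (φ0 s) = f ⁻¹ᵁ C.basicOpen s := by
      show V.basicOpen ((f.appLE (g ⁻¹ᵁ O) (πV ⁻¹ᵁ O) hpre.ge) s) = _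
      rw [Scheme.basicOpen_appLE]
      exact inf_eq_right.2 ((f.preimage_mono (C.basicOpen_le s)).trans hpre.le)
    have hθ : Function.Bijective (f.appLE (C.basicOpen s) (V.basicOpen (φ0 s)) he.le).hom :=
      bijective_of_away s φ0 hφ0 _ fun r =>
        (congr($(f.map_appLE he.le (homOfLE (C.basicOpen_le s)).op) r)).trans
          (congr($(f.appLE_map hpre.ge (homOfLE (V.basicOpen_le (φ0 s))).op) r)).symm
    have key : ∀ (V' : V.Opens) (_ : V' = V.basicOpen (φ0 s)) (e' : V' ≤ f ⁻¹ᵁ C.basicOpen s),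
        IsIso (f.appLE (C.basicOpen s) V' e') := by
      rintro V' rfl e'
      exact (ConcreteCategory.isIso_iff_bijective _).2 hθ
    rw [Scheme.Hom.app_eq_appLE]
    exact key _ he.symm _
  exact inferInstanceAs (IsIso ((TopCat.Sheaf.forget _ _).map φ))

theorem surjective_of_isIso_c {X Y : Scheme.{u}} (p : X ⟶ Y) [IsProper p] (hθ : IsIso p.c) : Surjective p := by
  refine ⟨fun y => ?_⟩
  by_contra hy
  let U : Y.Opens := ⟨(Set.range p)ᶜ, p.isClosedMap.isClosed_range.isOpen_compl⟩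
  haveI : Subsingleton Γ(X, p ⁻¹ᵁ U) := by
    haveI : IsEmpty (p ⁻¹ᵁ U : X.Opens) := ⟨fun x => x.2 ⟨x.1, rfl⟩⟩
    refine CommRingCat.subsingleton_of_isTerminal ?_
    rw [show p ⁻¹ᵁ U = ⊥ from eq_bot_iff.2 fun x hx => hx ⟨x, rfl⟩]
    exact X.sheaf.isTerminalOfEmpty
  have hi : IsIso (p.app U) := inferInstanceAs (IsIso (p.c.app (op U)))
  have h1 : (1 : Γ(Y, U)) = 0 := ((ConcreteCategory.isIso_iff_bijective (p.app U)).1 hi).1 (Subsingleton.elim _ _)
  have h2 : Y.basicOpen (1 : Γ(Y, U)) = ⊥ := by rw [h1]; exact Y.basicOpen_zero U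
  rw [Y.basicOpen_of_isUnit isUnit_one] at h2
  have : y ∈ U := hy
  rw [h2] at this
  exact this

variable {X Y : Scheme.{u}} (p : X ⟶ Y) [IsProper p] {L : X.Modules} (D : LB L)

/-- The spectrum of the direct image. -/
abbrev LB.C' : Scheme.{u} :=
  haveI : IsAffineHom D.π := D.affine
  (RelSpec.QCAlg.directImage (D.π ≫ p)).spec

/-- Its structure map. -/
abbrev LB.g' : D.C' p ⟶ Y :=
  haveI : IsAffineHom D.π := D.affine
  (RelSpec.QCAlg.directImage (D.π ≫ p)).π

theorem LB.isIso_sndHom (hθ : IsIso p.c) : IsIso (sndHom p (D.π ≫ p) D.j0 (D.j0_π_p p)) := by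
  haveI : ∀ O, IsIso ((sndHom p (D.π ≫ p) D.j0 (D.j0_π_p p)).app O) := fun O => by
    obtain ⟨O⟩ := O
    have hi : IsIso (p.app O) := inferInstanceAs (IsIso (p.c.app (op O)))
    have hb := (ConcreteCategory.isIso_iff_bijective (p.app O)).1 hi
    refine (ConcreteCategory.isIso_iff_bijective _).2 ⟨?_, fun v => ?_⟩
    · intro (z : Sect p (D.π ≫ p) D.j0 (D.j0_π_p p) O) (z' : Sect p (D.π ≫ p) D.j0 (D.j0_π_p p) O) h'
      have h : z.1.2 = z'.1.2 := h'
      exact Subtype.ext (Prod.ext (hb.1 (z.2.trans ((congrArg (jh p (D.π ≫ p) D.j0 (D.j0_π_p p) O) h).trans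
        z'.2.symm))) h)
    · obtain ⟨a, ha⟩ := hb.2 (jh p (D.π ≫ p) D.j0 (D.j0_π_p p) O v)
      exact ⟨⟨(a, v), ha⟩, rfl⟩
  exact NatIso.isIso_of_isIso_app _

variable (q' : D.V ⟶ D.C' p) (hq'π : q' ≫ D.g' p = D.π ≫ p)

/-- The comparison of the two models of the contraction. -/
theorem LB.exists_comparison (hθ : IsIso p.c) (hiso : IsIso (AffAlg.algHom (D.g' p) (D.π ≫ p) q' hq'π)) :
    ∃ e : D.C' p ⟶ D.C p, IsIso e ∧ e ≫ D.g p = D.g' p ∧ q' ≫ e = D.q p := by
  haveI := D.isIso_sndHom p hθ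
  haveI := hiso
  let π' := D.g' p
  let α := AffAlg.algHom π' (D.π ≫ p) q' hq'π
  let ω := (qalg p (D.π ≫ p) D.j0 (D.j0_π_p p)).gammaMap ≫ sndHom p (D.π ≫ p) D.j0 (D.j0_π_p p) ≫ inv α
  have hω : (D.g p).c ≫ ω = π'.c := by
    show (D.g p).c ≫ (qalg p (D.π ≫ p) D.j0 (D.j0_π_p p)).gammaMap ≫
      sndHom p (D.π ≫ p) D.j0 (D.j0_π_p p) ≫ inv α = π'.c
    rw [← Category.assoc (qalg p (D.π ≫ p) D.j0 (D.j0_π_p p)).gammaMap, ← Category.assoc (D.g p).c,
      π_c_snd p (D.π ≫ p) D.j0 (D.j0_π_p p), IsIso.comp_inv_eq]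
    exact (AffAlg.algHom_comm π' (D.π ≫ p) q' hq'π).symm
  let e := RelSpecX.ofAlgHom (D.g p) π' ⟨ω, hω⟩
  have he : e ≫ D.g p = π' := RelSpecX.ofAlgHom_comp _ _ _
  refine ⟨e, ?_, he, ?_⟩
  · rw [RelSpecX.isIso_iff (D.g p) π' e he, RelSpecX.algHom_ofAlgHom]
    infer_instance
  · refine RelSpecX.algHom_injective (D.g p) (D.π ≫ p) (by rw [Category.assoc, he, hq'π])
      (ctrq_π p (D.π ≫ p) D.j0 (D.j0_π_p p)) fun U => ?_
    rw [RelSpecX.algHom_comp (D.g p) π' (D.π ≫ p) e he q' hq'π, RelSpecX.algHom_ofAlgHom,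
      show AffAlg.algHom π' (D.π ≫ p) q' hq'π = α from rfl,
      show AffAlg.algHom (D.g p) (D.π ≫ p) (D.q p) (ctrq_π p (D.π ≫ p) D.j0 (D.j0_π_p p)) =
        (qalg p (D.π ≫ p) D.j0 (D.j0_π_p p)).gammaMap ≫ sndHom p (D.π ≫ p) D.j0 (D.j0_π_p p) from
          RelSpecX.algHom_ofAlgHom _ _ _]
    simp [ω]

theorem LB.isProper_q' (hθ : IsIso p.c) (hamp : RelAmple.IsRelAmple p L) (hL : PicF.IsInvertible L)
    (hiso : IsIso (AffAlg.algHom (D.g' p) (D.π ≫ p) q' hq'π)) : IsProper q' := by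
  obtain ⟨e, he, -, hqe⟩ := D.exists_comparison p q' hq'π hθ hiso
  haveI := D.isProper_q p hamp hL
  rw [show q' = D.q p ≫ inv e from (IsIso.eq_comp_inv e).2 hqe]
  infer_instance

theorem LB.surjective_q' (hθ : IsIso p.c) (hamp : RelAmple.IsRelAmple p L) (hL : PicF.IsInvertible L)
    (hiso : IsIso (AffAlg.algHom (D.g' p) (D.π ≫ p) q' hq'π)) : Surjective q' := by
  obtain ⟨e, he, -, hqe⟩ := D.exists_comparison p q' hq'π hθ hiso
  haveI := D.isProper_q p hamp hL
  haveI := surjective_of_isIso_c p hθ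
  refine ⟨fun c => ?_⟩
  have hinj : ∀ c v, D.q p v = e c → ∃ v', q' v' = c := fun c v h =>
    ⟨v, (Scheme.homeoOfIso (asIso e)).injective ((congr($hqe v)).trans h)⟩
  obtain ⟨v, hv⟩ | ⟨y, hy⟩ := (range_union p (D.π ≫ p) D.j0 (D.j0_π_p p) (D.q p).isClosedMap.isClosed_range).ge
    (Set.mem_univ (e c))
  · exact hinj c v hv
  · obtain ⟨x, rfl⟩ := p.surjective y
    exact hinj c (D.j0 x) ((congr($(comp_ctrq p (D.π ≫ p) D.j0 (D.j0_π_p p)) x)).trans hy)

theorem LB.existsUnique_factor (hθ : IsIso p.c) (hamp : RelAmple.IsRelAmple p L) (hL : PicF.IsInvertible L)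
    (hiso : IsIso (AffAlg.algHom (D.g' p) (D.π ≫ p) q' hq'π)) {C : Scheme.{u}} (g : C ⟶ Y) (ε : Y ⟶ C)
    (q : D.V ⟶ C) (hqg : q ≫ g = D.π ≫ p) (hjq : D.j0 ≫ q = p ≫ ε) :
    ∃! u : D.C' p ⟶ C, u ≫ g = D.g' p ∧ q' ≫ u = q := by
  haveI : IsAffineHom D.π := D.affine
  obtain ⟨e, he, heg, hqe⟩ := D.exists_comparison p q' hq'π hθ hiso
  haveI := D.isProper_q' p q' hq'π hθ hamp hL hiso
  haveI := D.surjective_q' p q' hq'π hθ hamp hL hiso
  haveI := hiso
  haveI : IsIso q'.c := isIso_c_of_isIso_algHom q' (D.g' p) (D.π ≫ p) hq'π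
  have hquot : Topology.IsQuotientMap q'.base := q'.isClosedMap.isQuotientMap q'.continuous q'.surjective
  let V0 : D.V.Opens := ⟨(Set.range D.j0)ᶜ, D.isClosed_range_j0.isOpen_compl⟩
  have hV0 : (V0 : Set D.V) = (Set.range D.j0)ᶜ := rfl
  haveI := D.isOpenImmersion_q p hamp hL V0 hV0
  have hqe' : ∀ v, e (q' v) = D.q p v := fun v => congr($hqe v)
  have hconst : ∀ a b : D.V, q'.base a = q'.base b → q.base a = q.base b := fun a b h => by
    have h' : D.q p a = D.q p b := by rw [← hqe', ← hqe']; exact congrArg e h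
    have key : ∀ (a : D.V), a ∉ V0 → ∃ x, D.j0 x = a := fun a ha => by
      by_contra hn
      exact ha fun ⟨x, hx⟩ => hn ⟨x, hx⟩
    have hdis : ∀ a b : D.V, a ∈ V0 → b ∉ V0 → D.q p a ≠ D.q p b := fun a b ha hb hab => by
      obtain ⟨x, rfl⟩ := key b hb
      refine (Set.eq_empty_iff_forall_notMem.1 (D.disjoint_q p hamp hL V0 hV0) (D.q p a)) ⟨⟨⟨a, ha⟩, rfl⟩, p x, ?_⟩
      exact (hab.trans congr($(comp_ctrq p (D.π ≫ p) D.j0 (D.j0_π_p p)) x)).symm
    by_cases ha : a ∈ V0 <;> by_cases hb : b ∈ V0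
    · have : (⟨a, ha⟩ : V0) = ⟨b, hb⟩ := (V0.ι ≫ D.q p).isOpenEmbedding.injective h'
      exact congrArg (fun w : V0 => q w.1) this
    · exact absurd h' (hdis a b ha hb)
    · exact absurd h'.symm (hdis b a hb ha)
    · obtain ⟨x, rfl⟩ := key a ha
      obtain ⟨x', rfl⟩ := key b hb
      have hp : ∀ x, (D.π ≫ p) (D.j0 x) = p x := fun x => congr($(D.j0_π_p p) x)
      have hpx : p x = p x' := by
        rw [← hp x, ← hp x', ← hq'π]
        exact congrArg (D.g' p).base h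
      exact (congr($hjq x)).trans ((congrArg ε.base hpx).trans (congr($hjq x')).symm)
  obtain ⟨huniq, hex⟩ := S3567.result q' hquot C
  obtain ⟨u, hu⟩ := hex q hconst
  have hug : u ≫ g = D.g' p := (S3567.result q' hquot Y).1 _ _ (by rw [← Category.assoc, hu, hqg, hq'π])
  exact ⟨u, ⟨hug, hu⟩, fun u' hu' => huniq _ _ (hu'.2.trans hu.symm)⟩

end Groth.Agent.ContractX
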