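import Groth.Agent.ContractX.LB
import Groth.Agent.AmpleX.Locus

/-!
# Sections of powers as homogeneous functions on the line bundle
-/

universe u

open CategoryTheory CategoryTheory.Limits AlgebraicGeometry TopologicalSpace Opposite

set_option linter.style.haveILetI false
set_option linter.unusedSectionVars false
set_option backward.isDefEq.respectTransparency false
set_option backward.isDefEq.respectTransparency.types false

noncomputable section

namespace Groth.Agent.ContractX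

open Groth.Agent Groth.Agent.ProjQ

theorem eqOfLocally {X : Scheme.{u}} {U : X.Opens} {s t : Γ(X, U)}
    (h : ∀ x ∈ U, ∃ (W : X.Opens) (i : W ≤ U), x ∈ W ∧ AModX.resR i s = AModX.resR i t) : s = t := by
  choose W i hx he using h
  exact X.sheaf.eq_of_locally_eq' (fun x : U => W x.1 x.2) U (fun x => homOfLE (i x.1 x.2))
    (fun x hxU => Opens.mem_iSup.2 ⟨⟨x, hxU⟩, hx x hxU⟩) s t (fun x => he x.1 x.2)

namespace LB

variable {X : Scheme.{u}} {L : X.Modules} (D : LB L) {n : ℕ} {W : X.Opens} (s : Γ(CohB1.tensorPow L n, W))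

/-- The coordinate of a section of a power in a frame. -/
def crd (a : LineTriv L) (ha : a.1.1 ≤ W) : Γ(X, a.1.1) :=
  ((isFrame_pw a.2.2 n).exists_coord le_rfl (AModX.res (CohB1.tensorPow L n) ha s)).choose

theorem res_eq_crd (a : LineTriv L) (ha : a.1.1 ≤ W) :
    AModX.res (CohB1.tensorPow L n) ha s = crd s a ha • pw a.2.1 n := by
  have h := ((isFrame_pw a.2.2 n).exists_coord le_rfl (AModX.res (CohB1.tensorPow L n) ha s)).choose_spec
  exact h.trans (congrArg _ (AModX.res_self _))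

/-- The function of a section in a frame. -/
def hatLoc (a : LineTriv L) (ha : a.1.1 ≤ W) : Γ(D.V, D.π ⁻¹ᵁ a.1.1) :=
  D.π.app a.1.1 (crd s a ha) * D.T a ^ n

theorem res_hatLoc (a b : LineTriv L) (ha : a.1.1 ≤ W) (hb : b.1.1 ≤ W) {Z : X.Opens} (hZ : IsAffineOpen Z)
    (ia : Z ≤ a.1.1) (ib : Z ≤ b.1.1) :
    AModX.resR (D.π.preimage_mono ia) (D.hatLoc s a ha) =
      AModX.resR (D.π.preimage_mono ib) (D.hatLoc s b hb) := by
  obtain ⟨u, hu⟩ := a.2.2.exists_coord ia (AModX.res L ib b.2.1)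
  have hf : InvX.IsFrame (u • AModX.res L ia a.2.1) := hu ▸ b.2.2.res ib
  let Ta : Γ(D.V, D.π ⁻¹ᵁ Z) := D.T (a.restr hZ ia)
  have hTa : D.T (a.restr hZ ia) = Ta := rfl
  have hT : D.T (b.restr hZ ib) = D.π.app Z u * Ta :=
    (show ∀ (e : Γ(L, Z)) (he : InvX.IsFrame e) (_ : e = u • AModX.res L ia a.2.1),
        D.T ⟨⟨Z, hZ⟩, e, he⟩ = D.π.app Z u * Ta from fun e he h => by
      subst h; exact D.smul (a.restr hZ ia) u he) _ (b.2.2.res ib) hu
  have hc : AModX.resR ia (crd s a ha) = AModX.resR ib (crd s b hb) * u ^ n := by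
    refine ((isFrame_pw a.2.2 n).res ia).coord_unique le_rfl ?_
    rw [AModX.res_self]
    have h1 := congrArg (AModX.res (CohB1.tensorPow L n) ia) (res_eq_crd s a ha)
    have h2 := congrArg (AModX.res (CohB1.tensorPow L n) ib) (res_eq_crd s b hb)
    rw [AModX.res_res, AModX.res_smul] at h1 h2
    rw [← h1, h2, res_pw, hu, pw_smul, mul_smul, res_pw]
  rw [hatLoc, hatLoc, map_mul, map_mul, map_pow, map_pow, D.app_res ia, D.app_res ib, D.res a hZ ia, D.res b hZ ib, hT, hTa,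
    hc, map_mul, map_pow, mul_pow]
  ring

theorem existsUnique_hat (hL : PicF.IsInvertible L) :
    ∃! t : Γ(D.V, D.π ⁻¹ᵁ W), ∀ a : {a : LineTriv L // a.1.1 ≤ W},
      AModX.resR (D.π.preimage_mono a.2) t = D.hatLoc s a.1 a.2 := by
  refine D.V.sheaf.existsUnique_gluing' (fun a : {a : LineTriv L // a.1.1 ≤ W} => D.π ⁻¹ᵁ a.1.1.1) (D.π ⁻¹ᵁ W)
    (fun a => homOfLE (D.π.preimage_mono a.2)) (fun v hv => ?_) _ fun a b => ?_
  · obtain ⟨a, ha, hle⟩ := exists_lineTriv_le hL (show D.π v ∈ W from hv)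
    exact Opens.mem_iSup.2 ⟨⟨a, hle⟩, ha⟩
  · refine eqOfLocally fun v hv => ?_
    obtain ⟨Z, hZ, hxZ, hle⟩ := ProjQ.exists_affine_le (show D.π v ∈ a.1.1.1 ⊓ b.1.1.1 from hv)
    refine ⟨D.π ⁻¹ᵁ Z, D.π.preimage_mono hle, hxZ, ?_⟩
    refine (AModX.resR_resR (D.π.preimage_mono inf_le_left) (D.π.preimage_mono hle) _).trans
      (Eq.trans ?_ (AModX.resR_resR (D.π.preimage_mono inf_le_right) (D.π.preimage_mono hle) _).symm)
    exact D.res_hatLoc s a.1 b.1 a.2 b.2 hZ (hle.trans inf_le_left) (hle.trans inf_le_right)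

/-- A section of a power as a function on the line bundle. -/
def hat (hL : PicF.IsInvertible L) : Γ(D.V, D.π ⁻¹ᵁ W) := (D.existsUnique_hat s hL).choose

theorem res_hat (hL : PicF.IsInvertible L) (a : LineTriv L) (ha : a.1.1 ≤ W) :
    AModX.resR (D.π.preimage_mono ha) (D.hat s hL) = D.hatLoc s a ha :=
  (D.existsUnique_hat s hL).choose_spec.1 ⟨a, ha⟩

theorem j0_hat (hL : PicF.IsInvertible L) (hn : n ≠ 0) (e : W ≤ D.j0 ⁻¹ᵁ (D.π ⁻¹ᵁ W)) :
    D.j0.appLE (D.π ⁻¹ᵁ W) W e (D.hat s hL) = 0 := by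
  refine eqOfLocally fun x hx => ?_
  obtain ⟨a, ha, hle⟩ := exists_lineTriv_le hL hx
  refine ⟨a.1.1, hle, ha, ?_⟩
  rw [map_zero]
  have h1 : AModX.resR hle (D.j0.appLE (D.π ⁻¹ᵁ W) W e (D.hat s hL)) =
      D.j0.appLE (D.π ⁻¹ᵁ a.1.1) a.1.1 (D.le_j0 _) (AModX.resR (D.π.preimage_mono hle) (D.hat s hL)) :=
    (congr($(D.j0.appLE_map e (homOfLE hle).op) (D.hat s hL))).trans
      (congr($(D.j0.map_appLE (D.le_j0 a.1.1) (homOfLE (D.π.preimage_mono hle)).op) (D.hat s hL))).symm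
  rw [h1, D.res_hat s hL a hle, hatLoc, map_mul, map_pow, D.zero a, zero_pow hn, mul_zero]

theorem basicOpen_hat (hL : PicF.IsInvertible L) (hn : n ≠ 0) (V0 : D.V.Opens)
    (hV0 : (V0 : Set D.V) = (Set.range D.j0)ᶜ) :
    D.V.basicOpen (D.hat s hL) = D.π ⁻¹ᵁ AmpleX.locus s ⊓ V0 := by
  refine Opens.ext (Set.ext fun v => ?_)
  show v ∈ D.V.basicOpen (D.hat s hL) ↔ v ∈ D.π ⁻¹ᵁ AmpleX.locus s ⊓ V0
  by_cases hv : D.π v ∈ W
  swap
  · exact ⟨fun h => absurd (D.V.basicOpen_le _ h) hv, fun h => absurd (AmpleX.locus_le s h.1) hv⟩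
  obtain ⟨a, ha, hle⟩ := exists_lineTriv_le hL hv
  have h1 : v ∈ D.V.basicOpen (D.hat s hL) ↔ v ∈ D.V.basicOpen (D.hatLoc s a hle) := by
    rw [← D.res_hat s hL a hle]
    show _ ↔ v ∈ D.V.basicOpen (D.V.presheaf.map (homOfLE (D.π.preimage_mono hle)).op (D.hat s hL))
    rw [Scheme.basicOpen_res]
    exact ⟨fun h => ⟨ha, h⟩, fun h => h.2⟩
  have h2 : v ∈ V0 ↔ v ∈ D.V.basicOpen (D.T a) := by
    show v ∈ (V0 : Set D.V) ↔ _
    rw [hV0]
    exact (not_congr (D.mem_range_j0_iff a ha)).trans not_not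
  have h3 : D.π v ∈ AmpleX.locus s ↔ D.π v ∈ X.basicOpen (crd s a hle) := by
    rw [← AmpleX.locus_inf s hle (isFrame_pw a.2.2 n) (res_eq_crd s a hle)]
    exact ⟨fun h => ⟨h, ha⟩, fun h => h.1⟩
  rw [h1, hatLoc, Scheme.basicOpen_mul, Scheme.basicOpen_pow _ _ (Nat.pos_of_ne_zero hn), ← Scheme.preimage_basicOpen,
    Opens.mem_inf, Opens.mem_inf, h2]
  exact and_congr_left fun _ => h3.symm

end LB

end Groth.Agent.ContractX
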