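import Groth.Agent.ContractX.Cone
import Groth.Agent.ContractX.Hat
import Groth.Agent.AmpleX.Rel

/-!
# Ampleness gives a contraction of the zero section
-/

universe u

open CategoryTheory CategoryTheory.Limits AlgebraicGeometry TopologicalSpace Opposite

set_option linter.style.haveILetI false
set_option linter.unusedSectionVars false
set_option backward.isDefEq.respectTransparency false
set_option backward.isDefEq.respectTransparency.types false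

noncomputable section

namespace Groth.Agent.ContractX

open Groth.Agent Groth.Agent.ProjQ

variable {X Y : Scheme.{u}} (p : X ⟶ Y) [IsSeparated p] [QuasiCompact p] {L : X.Modules} (D : LB L)

theorem LB.j0_π_p : D.j0 ≫ D.π ≫ p = p := by rw [← Category.assoc, D.j0π, Category.id_comp]

/-- The contraction of the zero section of a line bundle. -/
abbrev LB.C : Scheme.{u} := Ctr p (D.π ≫ p) D.j0 (D.j0_π_p p)

/-- Its structure map. -/
abbrev LB.g : D.C p ⟶ Y := ctrπ p (D.π ≫ p) D.j0 (D.j0_π_p p)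

/-- Its section. -/
abbrev LB.ε : Y ⟶ D.C p := ctrε p (D.π ≫ p) D.j0 (D.j0_π_p p)

/-- The contraction map. -/
abbrev LB.q : D.V ⟶ D.C p := ctrq p (D.π ≫ p) D.j0 (D.j0_π_p p)

theorem LB.mem_elt {O : Y.Opens} (v : Γ(D.V, (D.π ≫ p) ⁻¹ᵁ O))
    (hv : jh p (D.π ≫ p) D.j0 (D.j0_π_p p) O v = 0) :
    ((0, v) : Γ(Y, O) × Γ(D.V, (D.π ≫ p) ⁻¹ᵁ O)) ∈ Sect p (D.π ≫ p) D.j0 (D.j0_π_p p) O := by
  rw [mem_sect, map_zero, hv]

/-- The element attached to a function vanishing on the zero section. -/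
def LB.elt {O : Y.Opens} (hO : IsAffineOpen O) (v : Γ(D.V, (D.π ≫ p) ⁻¹ᵁ O))
    (hv : jh p (D.π ≫ p) D.j0 (D.j0_π_p p) O v = 0) : Γ(D.C p, D.g p ⁻¹ᵁ O) :=
  (sE p (D.π ≫ p) D.j0 (D.j0_π_p p) O hO).inv ⟨(0, v), D.mem_elt p v hv⟩

theorem LB.sE_elt {O : Y.Opens} (hO : IsAffineOpen O) (v : Γ(D.V, (D.π ≫ p) ⁻¹ᵁ O))
    (hv : jh p (D.π ≫ p) D.j0 (D.j0_π_p p) O v = 0) :
    (sE p (D.π ≫ p) D.j0 (D.j0_π_p p) O hO).hom (D.elt p hO v hv) = ⟨(0, v), D.mem_elt p v hv⟩ :=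
  Iso.inv_hom_id_apply (sE p (D.π ≫ p) D.j0 (D.j0_π_p p) O hO) _

theorem LB.preimage_elt {O : Y.Opens} (hO : IsAffineOpen O) (v : Γ(D.V, (D.π ≫ p) ⁻¹ᵁ O))
    (hv : jh p (D.π ≫ p) D.j0 (D.j0_π_p p) O v = 0) :
    D.q p ⁻¹ᵁ (D.C p).basicOpen (D.elt p hO v hv) = D.V.basicOpen v := by
  rw [preimage_basicOpen_ctrq p (D.π ≫ p) D.j0 (D.j0_π_p p) hO, D.sE_elt p hO v hv]

theorem LB.preimage_ε_elt {O : Y.Opens} (hO : IsAffineOpen O) (v : Γ(D.V, (D.π ≫ p) ⁻¹ᵁ O))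
    (hv : jh p (D.π ≫ p) D.j0 (D.j0_π_p p) O v = 0) :
    D.ε p ⁻¹ᵁ (D.C p).basicOpen (D.elt p hO v hv) = ⊥ := by
  rw [preimage_basicOpen_ctrε p (D.π ≫ p) D.j0 (D.j0_π_p p) hO, D.sE_elt p hO v hv]
  exact Y.basicOpen_zero O

theorem LB.appLE_q_elt {O : Y.Opens} (hO : IsAffineOpen O) (v : Γ(D.V, (D.π ≫ p) ⁻¹ᵁ O))
    (hv : jh p (D.π ≫ p) D.j0 (D.j0_π_p p) O v = 0) :
    (D.q p).appLE _ ((D.π ≫ p) ⁻¹ᵁ O) (le_ctrq p (D.π ≫ p) D.j0 (D.j0_π_p p) O) (D.elt p hO v hv) = v := by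
  rw [appLE_ctrq p (D.π ≫ p) D.j0 (D.j0_π_p p) O hO, D.sE_elt p hO v hv]

theorem LB.isIso_restrict_elt {O : Y.Opens} (hO : IsAffineOpen O) (v : Γ(D.V, (D.π ≫ p) ⁻¹ᵁ O))
    (hv : jh p (D.π ≫ p) D.j0 (D.j0_π_p p) O v = 0) (hA : IsAffineOpen (D.V.basicOpen v)) :
    IsIso (D.q p ∣_ (D.C p).basicOpen (D.elt p hO v hv)) := by
  haveI : IsAffineHom D.π := D.affine
  let W := (D.π ≫ p) ⁻¹ᵁ O
  have hWc : IsCompact (W : Set D.V) := (D.π ≫ p).isCompact_preimage hO.isCompact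
  have hWq : IsQuasiSeparated (W : Set D.V) := (D.π ≫ p).isQuasiSeparated_preimage hO.isQuasiSeparated
  let c := D.elt p hO v hv
  let φ := ((D.q p).appLE (D.g p ⁻¹ᵁ O) W (le_ctrq p (D.π ≫ p) D.j0 (D.j0_π_p p) O)).hom
  have hφc : φ c = v := D.appLE_q_elt p hO v hv
  let Dc := (D.C p).basicOpen c
  let rC := ((D.C p).presheaf.map (homOfLE ((D.C p).basicOpen_le c)).op).hom
  let rV := (D.V.presheaf.map (homOfLE (D.V.basicOpen_le v)).op).hom
  have he : D.V.basicOpen v ≤ D.q p ⁻¹ᵁ Dc := (D.preimage_elt p hO v hv).ge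
  let θ := ((D.q p).appLE Dc (D.V.basicOpen v) he).hom
  have hθ : ∀ z, θ (rC z) = rV (φ z) := fun z =>
    (congr($((D.q p).map_appLE he (homOfLE ((D.C p).basicOpen_le c)).op) z)).trans
      (congr($((D.q p).appLE_map (le_ctrq p (D.π ≫ p) D.j0 (D.j0_π_p p) O) (homOfLE (D.V.basicOpen_le v)).op) z)).symm
  have hAC := hO.preimage (D.g p)
  letI := rC.toAlgebra
  haveI : IsLocalization.Away c Γ(D.C p, Dc) := hAC.isLocalization_basicOpen c
  letI := rV.toAlgebra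
  haveI : IsLocalization.Away v Γ(D.V, D.V.basicOpen v) := isLocalization_basicOpen_of_qcqs hWc hWq v
  have hcu : IsUnit (rC c) := IsLocalization.Away.algebraMap_isUnit c
  have hvu : IsUnit (rV v) := IsLocalization.Away.algebraMap_isUnit v
  have hθb : Function.Bijective θ := by
    refine ⟨(injective_iff_map_eq_zero θ).2 fun w hw => ?_, fun w => ?_⟩
    · obtain ⟨⟨z, _, k, rfl⟩, e⟩ := IsLocalization.surj (Submonoid.powers c) w
      have hz : rV (φ z) = 0 := by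
        rw [← hθ]
        show θ (algebraMap _ _ z) = 0
        rw [← e, map_mul, hw, zero_mul]
      obtain ⟨⟨_, m, rfl⟩, hm⟩ := (IsLocalization.map_eq_zero_iff (Submonoid.powers v)
        Γ(D.V, D.V.basicOpen v) (φ z)).1 hz
      have hm' : v ^ m * φ z = 0 := hm
      have hsz : c ^ (m + 1) * z = 0 := by
        refine ((ConcreteCategory.isIso_iff_bijective (sE p (D.π ≫ p) D.j0 (D.j0_π_p p) O hO).hom).1
          inferInstance).1 ?_
        rw [map_mul, map_pow, map_zero, D.sE_elt p hO v hv]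
        refine Subtype.ext (Prod.ext
          (?_ : (0 : Γ(Y, O)) ^ (m + 1) * (show Sect p (D.π ≫ p) D.j0 (D.j0_π_p p) O from
            (sE p (D.π ≫ p) D.j0 (D.j0_π_p p) O hO).hom z).1.1 = 0)
          (?_ : v ^ (m + 1) * (show Sect p (D.π ≫ p) D.j0 (D.j0_π_p p) O from
            (sE p (D.π ≫ p) D.j0 (D.j0_π_p p) O hO).hom z).1.2 = 0))
        · rw [zero_pow (Nat.succ_ne_zero m), zero_mul]
        · rw [← appLE_ctrq p (D.π ≫ p) D.j0 (D.j0_π_p p) O hO z]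
          show v ^ (m + 1) * φ z = 0
          rw [pow_succ', mul_assoc, hm', mul_zero]
      have hz0 : algebraMap Γ(D.C p, D.g p ⁻¹ᵁ O) Γ(D.C p, Dc) z = 0 :=
        (IsLocalization.map_eq_zero_iff (Submonoid.powers c) Γ(D.C p, Dc) z).2 ⟨⟨_, m + 1, rfl⟩, hsz⟩
      rw [hz0] at e
      exact (IsLocalization.map_units Γ(D.C p, Dc) (⟨c ^ k, k, rfl⟩ : Submonoid.powers c)).mul_left_eq_zero.1 e
    · obtain ⟨⟨t, _, k, rfl⟩, e⟩ := IsLocalization.surj (Submonoid.powers v) w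
      have hvt : jh p (D.π ≫ p) D.j0 (D.j0_π_p p) O (t * v) = 0 := by rw [map_mul, hv, mul_zero]
      obtain ⟨a, ha⟩ := hcu.pow (k + 1)
      refine ⟨rC (D.elt p hO (t * v) hvt) * ↑a⁻¹, ((hvu.pow (k + 1)).mul_left_inj).1 ?_⟩
      have e' : w * rV v ^ k = rV t := by rw [← map_pow]; exact e
      have ha' : θ (↑a⁻¹) * rV v ^ (k + 1) = 1 := by
        rw [← show θ (rC c) = rV v from (hθ c).trans (congrArg rV hφc), ← map_pow θ, ← ha, ← map_mul, Units.inv_mul, map_one]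
      rw [map_mul, mul_assoc, ha', mul_one, hθ, show φ (D.elt p hO (t * v) hvt) = t * v from D.appLE_q_elt p hO _ hvt,
        map_mul, pow_succ, ← mul_assoc, e']
  haveI : IsAffine (Dc : Scheme.{u}) := hAC.basicOpen c
  haveI : IsAffine ((D.q p ⁻¹ᵁ Dc : D.V.Opens) : Scheme.{u}) := by
    rw [D.preimage_elt p hO v hv]; exact hA
  refine (HasAffineProperty.iff_of_isAffine (P := MorphismProperty.isomorphisms Scheme.{u})).2
    ⟨inferInstance, ?_⟩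
  have key : ∀ (V' : D.V.Opens) (_ : V' = D.V.basicOpen v) (e' : V' ≤ D.q p ⁻¹ᵁ Dc),
      IsIso ((D.q p).appLE Dc V' e') := by
    rintro V' rfl e'
    exact (ConcreteCategory.isIso_iff_bijective _).2 hθb
  haveI : IsIso ((D.q p).app Dc) := by
    rw [Scheme.Hom.app_eq_appLE]
    exact key _ (D.preimage_elt p hO v hv) le_rfl
  rw [Scheme.Hom.appTop, morphismRestrict_app']
  have : ∀ (U' : (D.C p).Opens) (V' : D.V.Opens) (_ : U' = Dc) (_ : V' = D.q p ⁻¹ᵁ Dc) (e' : V' ≤ D.q p ⁻¹ᵁ U'),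
      IsIso ((D.q p).appLE U' V' e') := by
    rintro U' V' rfl rfl e'
    rw [← Scheme.Hom.app_eq_appLE]
    infer_instance
  exact this _ _ Dc.ι_image_top (Scheme.Opens.ι_image_top _) _

theorem LB.exists_elt (hamp : RelAmple.IsRelAmple p L) (hL : PicF.IsInvertible L) (V0 : D.V.Opens)
    (hV0 : (V0 : Set D.V) = (Set.range D.j0)ᶜ) {v : D.V} (hv : v ∈ V0) :
    ∃ O : (D.C p).Opens, v ∈ D.q p ⁻¹ᵁ O ∧ D.q p ⁻¹ᵁ O ≤ V0 ∧ D.ε p ⁻¹ᵁ O = ⊥ ∧ IsIso (D.q p ∣_ O) := by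
  haveI : IsAffineHom D.π := D.affine
  obtain ⟨_, ⟨O, hO, rfl⟩, hyO, -⟩ :=
    Y.isBasis_affineOpens.exists_subset_of_mem_open (Set.mem_univ (p (D.π v))) isOpen_univ
  obtain ⟨-, hz⟩ := (AmpleX.isAmple_restrict_iff (p ⁻¹ᵁ O).ι hL).1 (hamp.2 ⟨O, hO⟩)
  obtain ⟨n, hn, a, hxa, haA⟩ := hz ⟨D.π v, hyO⟩
  let s := AModX.res (CohB1.tensorPow L n) (p ⁻¹ᵁ O).ι_image_top.ge a
  have hloc : AmpleX.locus s = AmpleX.locus a :=
    (AmpleX.locus_res a _).trans (inf_eq_left.2 ((AmpleX.locus_le a).trans (p ⁻¹ᵁ O).ι_image_top.le))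
  let h : Γ(D.V, (D.π ≫ p) ⁻¹ᵁ O) := D.hat s hL
  have hh : jh p (D.π ≫ p) D.j0 (D.j0_π_p p) O h = 0 := by
    rw [jh, RelSpecX.algHom_app]
    exact D.j0_hat s hL hn.ne' _
  have hb : D.V.basicOpen h = D.π ⁻¹ᵁ AmpleX.locus a ⊓ V0 := hloc ▸ D.basicOpen_hat s hL hn.ne' V0 hV0
  have hA : IsAffineOpen (D.V.basicOpen h) := by
    have hle : D.π ⁻¹ᵁ AmpleX.locus a ≤ (D.π ≫ p) ⁻¹ᵁ O :=
      D.π.preimage_mono ((AmpleX.locus_le a).trans (p ⁻¹ᵁ O).ι_image_top.le)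
    have := (haA.preimage D.π).basicOpen (D.V.presheaf.map (homOfLE hle).op h)
    rwa [Scheme.basicOpen_res, inf_eq_right.2 (hb.le.trans inf_le_left)] at this
  refine ⟨(D.C p).basicOpen (D.elt p hO h hh), ?_, ?_, D.preimage_ε_elt p hO h hh, D.isIso_restrict_elt p hO h hh hA⟩
  · rw [D.preimage_elt p hO h hh, hb]
    exact ⟨hxa, hv⟩
  · rw [D.preimage_elt p hO h hh, hb]
    exact inf_le_right

theorem LB.isOpenImmersion_q (hamp : RelAmple.IsRelAmple p L) (hL : PicF.IsInvertible L) (V0 : D.V.Opens)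
    (hV0 : (V0 : Set D.V) = (Set.range D.j0)ᶜ) : IsOpenImmersion (V0.ι ≫ D.q p) := by
  choose O hvO hOle hOε hOiso using fun v : V0 => D.exists_elt p hamp hL V0 hV0 v.2
  let U : (D.C p).Opens := ⨆ v, O v
  have hU : V0 = D.q p ⁻¹ᵁ U := by
    refine le_antisymm (fun v hv => Opens.mem_iSup.2 ⟨⟨v, hv⟩, hvO ⟨v, hv⟩⟩) fun v hv => ?_
    obtain ⟨w, hw⟩ := Opens.mem_iSup.1 (show D.q p v ∈ ⨆ v, O v from hv)
    exact hOle w hw
  haveI : IsIso (D.q p ∣_ U) := by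
    refine (IsZariskiLocalAtTarget.iff_of_iSup_eq_top (P := MorphismProperty.isomorphisms Scheme.{u})
      (fun v => U.ι ⁻¹ᵁ O v) (top_unique fun y _ => ?_)).2 fun v => ?_
    · obtain ⟨w, hw⟩ := Opens.mem_iSup.1 y.2
      exact Opens.mem_iSup.2 ⟨w, hw⟩
    · refine ((MorphismProperty.isomorphisms Scheme.{u}).arrow_mk_iso_iff (morphismRestrictRestrict _ U _)).2 ?_
      rw [Scheme.Hom.image_preimage_eq_opensRange_inf, Scheme.Opens.opensRange_ι,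
        inf_eq_right.2 (le_iSup O v)]
      exact hOiso v
  rw [hU, ← morphismRestrict_ι]
  infer_instance

theorem LB.disjoint_q (hamp : RelAmple.IsRelAmple p L) (hL : PicF.IsInvertible L) (V0 : D.V.Opens)
    (hV0 : (V0 : Set D.V) = (Set.range D.j0)ᶜ) : Set.range (V0.ι ≫ D.q p) ∩ Set.range (D.ε p) = ∅ := by
  refine Set.eq_empty_of_forall_notMem ?_
  rintro _ ⟨⟨v, rfl⟩, y, hy⟩
  obtain ⟨O, hvO, -, hOε, -⟩ := D.exists_elt p hamp hL V0 hV0 v.2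
  have : y ∈ D.ε p ⁻¹ᵁ O := by
    show D.ε p y ∈ O
    rw [hy]
    exact hvO
  rw [hOε] at this
  exact this

theorem LB.quasiCompact_q (hL : PicF.IsInvertible L) (V0 : D.V.Opens)
    (hV0 : (V0 : Set D.V) = (Set.range D.j0)ᶜ) : QuasiCompact (V0.ι ≫ D.q p) := by
  haveI : IsAffineHom D.π := D.affine
  haveI : QuasiCompact (D.q p ≫ D.g p) := by rw [ctrq_π]; infer_instance
  haveI : QuasiCompact (D.q p) := QuasiCompact.of_comp (D.q p) (D.g p)
  haveI : QuasiCompact V0.ι := by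
    refine (IsZariskiLocalAtTarget.iff_of_iSup_eq_top (P := @QuasiCompact)
      (fun a : LineTriv L => D.π ⁻¹ᵁ a.1.1) (top_unique fun v _ => ?_)).2 fun a => ?_
    · obtain ⟨a, ha, -⟩ := exists_lineTriv_le hL (show D.π v ∈ (⊤ : X.Opens) from trivial)
      exact Opens.mem_iSup.2 ⟨a, ha⟩
    · haveI : CompactSpace (V0.ι ⁻¹ᵁ (D.π ⁻¹ᵁ a.1.1) : V0.toScheme.Opens) := by
        have h : V0 ⊓ D.π ⁻¹ᵁ a.1.1 = D.V.basicOpen (D.T a) := by
          refine Opens.ext (Set.ext fun v => ?_)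
          show v ∈ (V0 : Set D.V) ∩ _ ↔ _
          rw [hV0]
          exact ⟨fun h => not_not.1 fun hT => h.1 ((D.mem_range_j0_iff a h.2).2 hT), fun hT =>
            ⟨fun hr => (D.mem_range_j0_iff a (D.V.basicOpen_le _ hT)).1 hr hT, D.V.basicOpen_le _ hT⟩⟩
        refine isCompact_iff_compactSpace.1 ?_
        rw [V0.ι.isOpenEmbedding.isCompact_iff]
        have h' := ((D.isAffineOpen_piece a).basicOpen (D.T a)).isCompact
        rw [← h] at h'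
        convert h' using 1
        ext v
        exact ⟨fun ⟨w, hw, e⟩ => e ▸ ⟨w.2, hw⟩, fun hv => ⟨⟨v, hv.1⟩, hv.2, rfl⟩⟩
      haveI : IsAffine ((D.π ⁻¹ᵁ a.1.1 : D.V.Opens) : Scheme.{u}) := D.isAffineOpen_piece a
      exact (quasiCompact_iff_compactSpace _).2 inferInstance
  infer_instance

end Groth.Agent.ContractX
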