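import Groth.Agent.ContractX.LB
import Groth.Agent.RelSpecX.Spec
import Groth.Prelude.Def_RelSpec2

/-!
# The spectrum of the symmetric algebra of an invertible module is a line bundle
-/

universe u

open CategoryTheory CategoryTheory.Limits AlgebraicGeometry TopologicalSpace Opposite Polynomial

set_option linter.style.haveILetI false
set_option backward.isDefEq.respectTransparency false
set_option backward.isDefEq.respectTransparency.types false

noncomputable section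

namespace Groth.Agent.ContractX

open Groth.Agent Groth.Agent.ProjQ

variable {X : Scheme.{u}} {L : X.Modules} (𝒜 : RelProj.QCGrAlg X) (jL : L ⟶ 𝒜.toModule)

/-- The functions over an affine open. -/
def gaE (U : X.Opens) (hU : IsAffineOpen U) :
    Γ(𝒜.toQCAlg.spec, 𝒜.toQCAlg.π ⁻¹ᵁ U) ≅ 𝒜.presheaf.obj (op U) :=
  haveI := RelSpecX.isIso_gammaAff 𝒜.toQCAlg U hU
  asIso (𝒜.toQCAlg.gammaAff U hU)

theorem gaE_π (U : X.Opens) (hU : IsAffineOpen U) (r : Γ(X, U)) :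
    (gaE 𝒜 U hU).hom (𝒜.toQCAlg.π.app U r) = (𝒜.str.app (op U)).hom r :=
  congr($(𝒜.toQCAlg.π_app_gammaAff U hU) r)

theorem gaE_res {U V : X.Opens} (hU : IsAffineOpen U) (hV : IsAffineOpen V) (i : V ≤ U)
    (f : Γ(𝒜.toQCAlg.spec, 𝒜.toQCAlg.π ⁻¹ᵁ U)) :
    (gaE 𝒜 V hV).hom (AModX.resR (𝒜.toQCAlg.π.preimage_mono i) f) = 𝒜.res hU hV i ((gaE 𝒜 U hU).hom f) := by
  have h := congr($(RelSpecX.map_gammaAff 𝒜.toQCAlg hV i) f)
  rw [𝒜.toQCAlg.gammaMap_app U hU] at h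
  exact h

/-- The coordinate of a frame. -/
def coordT (a : LineTriv L) : Γ(𝒜.toQCAlg.spec, 𝒜.toQCAlg.π ⁻¹ᵁ a.1.1) :=
  (gaE 𝒜 a.1.1 a.1.2).inv (lgen jL a)

theorem gaE_coordT (a : LineTriv L) : (gaE 𝒜 a.1.1 a.1.2).hom (coordT 𝒜 jL a) = lgen jL a :=
  Iso.inv_hom_id_apply (gaE 𝒜 a.1.1 a.1.2) _

variable (hLq : Coh.IsQCoh L) (hA : RelProj.IsGrSymAlg L 𝒜 jL)

include hLq hA in
theorem bijective_eval₂_lgen (a : LineTriv L) :
    Function.Bijective (Polynomial.eval₂RingHom (𝒜.str.app (op a.1.1)).hom (lgen jL a)) := by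
  classical
  refine ⟨(injective_iff_map_eq_zero _).2 fun p hp => Polynomial.ext fun n => ?_, fun x => exists_poly hLq hA a x⟩
  have key : ∀ q : Γ(X, a.1.1)[X],
      (DirectSum.decompose (𝒜.deg a.1.1 a.1.2) (q.eval₂ (𝒜.str.app (op a.1.1)).hom (lgen jL a)) n : 𝒜.presheaf.obj (op a.1.1)) =
        (𝒜.str.app (op a.1.1)).hom (q.coeff n) * lgen jL a ^ n := by
    intro q
    induction q using Polynomial.induction_on' with
    | add p q hp hq =>
      rw [Polynomial.eval₂_add, DirectSum.decompose_add, DirectSum.add_apply, AddSubgroup.coe_add, hp, hq,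
        Polynomial.coeff_add, map_add, add_mul]
    | monomial m c =>
      rw [Polynomial.eval₂_monomial, Polynomial.coeff_monomial]
      by_cases h : m = n
      · subst h
        rw [if_pos rfl]
        exact DirectSum.decompose_of_mem_same _ (strMul_mem hA a c m)
      · rw [if_neg h, map_zero, zero_mul]
        exact DirectSum.decompose_of_mem_ne _ (strMul_mem hA a c m) h
  refine coord_inj hLq hA a n ?_
  rw [Polynomial.coe_eval₂RingHom] at hp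
  rw [← key p, hp]
  simp

variable (aug : 𝒜.toQCAlg ⟶ RelSpec.QCAlg.unit X) (haug : RelCone.IsAugmentation 𝒜 aug)
  (j0 : X ⟶ 𝒜.toQCAlg.spec) (hj0 : RelCone.IsVertex 𝒜 aug j0)

include hA haug hj0 in
theorem j0_appLE_coordT (a : LineTriv L) (e : a.1.1 ≤ j0 ⁻¹ᵁ (𝒜.toQCAlg.π ⁻¹ᵁ a.1.1)) :
    j0.appLE (𝒜.toQCAlg.π ⁻¹ᵁ a.1.1) a.1.1 e (coordT 𝒜 jL a) = 0 := by
  haveI : IsIso (a.1.2.fromSpec.appLE a.1.1 ⊤ a.1.2.fromSpec_preimage_self.ge) := by
    exact RelSpecX.isIso_appLE_of_le_range _ _ _ a.1.2.opensRange_fromSpec.ge a.1.2.fromSpec_preimage_self.symm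
  refine ((ConcreteCategory.isIso_iff_bijective (a.1.2.fromSpec.appLE a.1.1 ⊤ a.1.2.fromSpec_preimage_self.ge)).1
    inferInstance).1 ?_
  rw [map_zero, ← CommRingCat.comp_apply, Scheme.Hom.appLE_comp_appLE]
  have e1 : ⊤ ≤ (Spec.map (aug.hom.app (op a.1.1))) ⁻¹ᵁ ⊤ := le_rfl
  have key : ∀ (g : Spec Γ(X, a.1.1) ⟶ 𝒜.toQCAlg.spec),
      g = Spec.map (aug.hom.app (op a.1.1)) ≫ 𝒜.toQCAlg.ι a.1.1 a.1.2 → ∀ e',
      g.appLE (𝒜.toQCAlg.π ⁻¹ᵁ a.1.1) ⊤ e' (coordT 𝒜 jL a) = 0 := by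
    rintro g rfl e'
    rw [← Scheme.Hom.appLE_comp_appLE (Spec.map (aug.hom.app (op a.1.1))) (𝒜.toQCAlg.ι a.1.1 a.1.2) _ ⊤ _
      (𝒜.toQCAlg.top_le_preimage a.1.1 a.1.2) e1, CommRingCat.comp_apply]
    have h1 : (𝒜.toQCAlg.ι a.1.1 a.1.2).appLE (𝒜.toQCAlg.π ⁻¹ᵁ a.1.1) ⊤ (𝒜.toQCAlg.top_le_preimage a.1.1 a.1.2)
        (coordT 𝒜 jL a) = (Scheme.ΓSpecIso _).inv (lgen jL a) := by
      rw [← gaE_coordT 𝒜 jL a]
      exact (Iso.hom_inv_id_apply (Scheme.ΓSpecIso _) _).symm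
    rw [h1]
    have h2 := congr($(Scheme.ΓSpecIso_inv_naturality (aug.hom.app (op a.1.1))) (lgen jL a))
    simp only [CommRingCat.comp_apply] at h2
    rw [show (aug.hom.app (op a.1.1)) (lgen jL a) = 0 from haug a.1.1 a.1.2 0 _ (lgen_mem hA a), map_zero] at h2
    simp only [Scheme.Hom.appLE, Scheme.Hom.appTop] at h2 ⊢
    simp at h2 ⊢
    exact h2.symm
  exact key _ (hj0.chart a.1.1 a.1.2) _

/-- The line bundle of a symmetric algebra. -/
def lbOfAlg : LB L where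
  V := 𝒜.toQCAlg.spec
  π := 𝒜.toQCAlg.π
  affine := inferInstance
  j0 := j0
  j0π := hj0.comp_π
  T := coordT 𝒜 jL
  bij a := by
    have h : Polynomial.eval₂RingHom (𝒜.toQCAlg.π.app a.1.1).hom (coordT 𝒜 jL a) =
        (gaE 𝒜 a.1.1 a.1.2).inv.hom.comp (Polynomial.eval₂RingHom (𝒜.str.app (op a.1.1)).hom (lgen jL a)) := by
      refine Polynomial.ringHom_ext (fun r => ?_) ?_
      · rw [RingHom.comp_apply]
        simp only [Polynomial.coe_eval₂RingHom, Polynomial.eval₂_C]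
        rw [← gaE_π 𝒜 a.1.1 a.1.2]
        exact (Iso.hom_inv_id_apply (gaE 𝒜 a.1.1 a.1.2) _).symm
      · rw [RingHom.comp_apply]
        simp only [Polynomial.coe_eval₂RingHom, Polynomial.eval₂_X]
        rfl
    rw [h]
    exact ((ConcreteCategory.isIso_iff_bijective (gaE 𝒜 a.1.1 a.1.2).inv).1 inferInstance).comp (bijective_eval₂_lgen 𝒜 jL hLq hA a)
  res a U hU i := ((ConcreteCategory.isIso_iff_bijective (gaE 𝒜 U hU).hom).1 inferInstance).1 (by
    rw [gaE_res 𝒜 a.1.2 hU i, gaE_coordT, res_lgen]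
    exact (gaE_coordT 𝒜 jL (a.restr hU i)).symm)
  smul a u h := ((ConcreteCategory.isIso_iff_bijective (gaE 𝒜 a.1.1 a.1.2).hom).1 inferInstance).1 (by
    rw [map_mul, gaE_π, gaE_coordT]
    refine (gaE_coordT 𝒜 jL ⟨a.1, u • a.2.1, h⟩).trans ?_
    letI := VeryAmpleX.secAlg 𝒜.toQCAlg a.1.1
    exact ((VeryAmpleX.jLin jL a.1.1).map_smul u a.2.1).trans (Algebra.smul_def _ _))
  zero a e := j0_appLE_coordT 𝒜 jL hA aug haug j0 hj0 a e

end Groth.Agent.ContractX
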