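import Groth.Agent.ContractX.Radicial
import Groth.Agent.S3568
import Groth.Agent.RelSpecX.Gamma

/-!
# Integrality of line bundles and of the contracted scheme; contraction onto a normal scheme
-/

universe u

open CategoryTheory CategoryTheory.Limits AlgebraicGeometry TopologicalSpace Opposite

set_option linter.style.haveILetI false
set_option linter.unusedSectionVars false
set_option backward.isDefEq.respectTransparency false
set_option backward.isDefEq.respectTransparency.types false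

noncomputable section

namespace Groth.Agent.ContractX

open Groth.Agent Groth.Agent.ProjQ

theorem isIntegral_of_cover {Z : Scheme.{u}} [Nonempty Z] {ι : Type*} (U : ι → Z.Opens) (hU : ∀ z, ∃ i, z ∈ U i)
    (hint : ∀ i, IsIntegral (U i : Scheme.{u})) (hmeet : ∀ i j, ((U i : Set Z) ∩ U j).Nonempty) : IsIntegral Z := by
  haveI : IsReduced Z := by
    haveI : ∀ z : Z, _root_.IsReduced (Z.presheaf.stalk z) := fun z => by
      obtain ⟨i, hi⟩ := hU z
      haveI := hint i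
      let e := (asIso ((U i).ι.stalkMap ⟨z, hi⟩)).commRingCatIsoToRingEquiv
      exact isReduced_of_injective e.toRingHom e.injective
    exact isReduced_of_isReduced_stalk Z
  have hpre : ∀ i, IsPreirreducible (U i : Set Z) := fun i => by
    haveI := hint i
    have h := ((IrreducibleSpace.isIrreducible_univ _).image (U i).ι ((U i).ι.continuous.continuousOn)).2
    rwa [Set.image_univ, Scheme.Opens.range_ι] at h
  haveI : PreirreducibleSpace Z := ⟨fun A B hA hB ⟨a, _, ha⟩ ⟨b, _, hb⟩ => by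
    obtain ⟨i, hi⟩ := hU a
    obtain ⟨j, hj⟩ := hU b
    obtain ⟨c, hc, hcj⟩ : ((U i : Set Z) ∩ (A ∩ U j)).Nonempty :=
      hpre i A (U j) hA (U j).isOpen ⟨a, hi, ha⟩ (hmeet i j)
    obtain ⟨d, hd, hd'⟩ : ((U j : Set Z) ∩ (A ∩ B)).Nonempty :=
      hpre j A B hA hB ⟨c, hcj.2, hcj.1⟩ ⟨b, hj, hb⟩
    exact ⟨d, trivial, hd'⟩⟩
  haveI : IrreducibleSpace Z := { toNonempty := ‹_› }
  exact isIntegral_of_irreducibleSpace_of_isReduced Z

theorem isIntegral_opens_of_isDomain {Z : Scheme.{u}} {U : Z.Opens} (hU : IsAffineOpen U) [IsDomain Γ(Z, U)] :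
    IsIntegral (U : Scheme.{u}) :=
  haveI : IsIntegral (Spec Γ(Z, U)) := inferInstance
  haveI : Nonempty (U : Scheme.{u}) := ⟨hU.isoSpec.inv (genericPoint (Spec Γ(Z, U)))⟩
  isIntegral_of_isOpenImmersion hU.isoSpec.hom

variable {X Y : Scheme.{u}} {L : X.Modules} (D : LB L)

theorem LB.isIntegral_V (hL : PicF.IsInvertible L) [IsIntegral X] : IsIntegral D.V := by
  let ι := {a : LineTriv L // Nonempty (a.1.1 : X.Opens)}
  haveI : Nonempty D.V := ⟨D.j0 (genericPoint X)⟩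
  have hη : ∀ a : ι, genericPoint X ∈ a.1.1.1 := fun a =>
    ((genericPoint_spec X).mem_open_set_iff a.1.1.1.isOpen).2 (by simpa using a.2)
  refine isIntegral_of_cover (fun a : ι => D.π ⁻¹ᵁ a.1.1.1) (fun v => ?_) (fun a => ?_) fun a b => ?_
  · obtain ⟨a, ha, -⟩ := exists_lineTriv_le hL (show D.π v ∈ (⊤ : X.Opens) from trivial)
    exact ⟨⟨a, ⟨⟨_, ha⟩⟩⟩, ha⟩
  · haveI := a.2
    haveI : IsDomain Γ(X, a.1.1.1) := IsIntegral.component_integral _
    haveI : IsDomain Γ(D.V, D.π ⁻¹ᵁ a.1.1.1) :=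
      (RingEquiv.ofBijective _ (D.ev_bijective a.1)).symm.toMulEquiv.isDomain _
    exact isIntegral_opens_of_isDomain (D.isAffineOpen_piece a.1)
  · exact ⟨D.j0 (genericPoint X), D.le_j0 _ (hη a), D.le_j0 _ (hη b)⟩

theorem LB.isIntegral_C' (p : X ⟶ Y) [IsSeparated p] [QuasiCompact p] [IsIntegral X] (hL : PicF.IsInvertible L)
    [IsAffineHom D.π] : IsIntegral (RelSpec.QCAlg.directImage (D.π ≫ p)).spec := by
  haveI := D.isIntegral_V hL
  let A := RelSpec.QCAlg.directImage (D.π ≫ p)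
  let ι := {O : Y.affineOpens // genericPoint X ∈ p ⁻¹ᵁ O.1}
  have hm : ∀ O : Y.Opens, genericPoint X ∈ p ⁻¹ᵁ O → Nonempty ((D.π ≫ p) ⁻¹ᵁ O : D.V.Opens) := fun O hO =>
    ⟨⟨D.j0 (genericPoint X), D.le_j0 _ hO⟩⟩
  have hne : ∀ O : Y.affineOpens, genericPoint X ∈ p ⁻¹ᵁ O.1 → ∀ s : Set A.spec,
      s = (A.π ⁻¹ᵁ O.1 : A.spec.Opens) → s.Nonempty := fun O hO s hs => by
    haveI := hm _ hO
    haveI : IsDomain Γ(D.V, (D.π ≫ p) ⁻¹ᵁ O.1) := IsIntegral.component_integral _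
    haveI : IsIso (A.gammaAff O.1 O.2) := RelSpecX.isIso_gammaAff A O.1 O.2
    haveI : Nontrivial (A.presheaf.obj (op O.1)) := inferInstanceAs (Nontrivial Γ(D.V, (D.π ≫ p) ⁻¹ᵁ O.1))
    haveI : Nontrivial Γ(A.spec, A.π ⁻¹ᵁ O.1) :=
      ((asIso (A.gammaAff O.1 O.2)).commRingCatIsoToRingEquiv).toEquiv.nontrivial
    obtain ⟨w⟩ := (inferInstance : Nonempty (PrimeSpectrum Γ(A.spec, A.π ⁻¹ᵁ O.1)))
    exact ⟨(O.2.preimage A.π).fromSpec w, hs ▸ (O.2.preimage A.π).range_fromSpec.le (Set.mem_range_self w)⟩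
  haveI : Nonempty A.spec := by
    obtain ⟨_, ⟨O, hO, rfl⟩, hyO, -⟩ :=
      Y.isBasis_affineOpens.exists_subset_of_mem_open (Set.mem_univ (p (genericPoint X))) isOpen_univ
    exact ⟨(hne ⟨O, hO⟩ hyO _ rfl).choose⟩
  refine isIntegral_of_cover (fun O : ι => A.π ⁻¹ᵁ O.1.1) (fun c => ?_) (fun O => ?_) fun O O' => ?_
  · obtain ⟨_, ⟨O, hO, rfl⟩, hyO, -⟩ :=
      Y.isBasis_affineOpens.exists_subset_of_mem_open (Set.mem_univ (A.π c)) isOpen_univ
    refine ⟨⟨⟨O, hO⟩, ?_⟩, hyO⟩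
    have hn : (A.π ⁻¹ᵁ O : A.spec.Opens) ≠ ⊥ := fun h => by
      have : c ∈ A.π ⁻¹ᵁ O := hyO
      rw [h] at this
      exact this
    by_contra hη
    apply hn
    have hemp : (D.π ≫ p) ⁻¹ᵁ O = ⊥ := eq_bot_iff.2 fun v hv => hη
      (((genericPoint_spec X).mem_open_set_iff (p ⁻¹ᵁ O).isOpen).2 ⟨D.π v, trivial, hv⟩)
    haveI : Subsingleton Γ(D.V, (D.π ≫ p) ⁻¹ᵁ O) := by
      rw [hemp]
      exact CommRingCat.subsingleton_of_isTerminal D.V.sheaf.isTerminalOfEmpty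
    haveI : Subsingleton (A.presheaf.obj (op O)) := inferInstanceAs (Subsingleton Γ(D.V, (D.π ≫ p) ⁻¹ᵁ O))
    haveI : IsIso (A.gammaAff O hO) := RelSpecX.isIso_gammaAff A O hO
    haveI : Subsingleton Γ(A.spec, A.π ⁻¹ᵁ O) :=
      ((asIso (A.gammaAff O hO)).commRingCatIsoToRingEquiv).toEquiv.subsingleton
    exact eq_bot_iff.2 fun z hz => by
      obtain ⟨w, -⟩ := (hO.preimage A.π).range_fromSpec.ge hz
      exact absurd (Subsingleton.elim (1 : Γ(A.spec, A.π ⁻¹ᵁ O)) 0) (fun h => w.isPrime.ne_top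
        ((Ideal.eq_top_iff_one _).2 (h ▸ Submodule.zero_mem _)))
  · haveI := hm _ O.2
    haveI : IsDomain Γ(D.V, (D.π ≫ p) ⁻¹ᵁ O.1.1) := IsIntegral.component_integral _
    haveI : IsDomain (A.presheaf.obj (op O.1.1)) := inferInstanceAs (IsDomain Γ(D.V, (D.π ≫ p) ⁻¹ᵁ O.1.1))
    haveI : IsIso (A.gammaAff O.1.1 O.1.2) := RelSpecX.isIso_gammaAff A O.1.1 O.1.2
    haveI : IsDomain Γ(A.spec, A.π ⁻¹ᵁ O.1.1) :=
      ((asIso (A.gammaAff O.1.1 O.1.2)).commRingCatIsoToRingEquiv).toMulEquiv.isDomain _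
    exact isIntegral_opens_of_isDomain (O.1.2.preimage A.π)
  · obtain ⟨_, ⟨O'', hO'', rfl⟩, hyO, hle⟩ :=
      Y.isBasis_affineOpens.exists_subset_of_mem_open (show p (genericPoint X) ∈ (O.1.1 ⊓ O'.1.1 : Y.Opens) from
        ⟨O.2, O'.2⟩) (O.1.1 ⊓ O'.1.1).isOpen
    obtain ⟨c, hc⟩ := hne ⟨O'', hO''⟩ hyO _ rfl
    exact ⟨c, (hle hc).1, (hle hc).2⟩

end Groth.Agent.ContractX

namespace Groth.Agent.ContractX

open Groth.Agent Groth.Agent.ProjQ

variable {X Y : Scheme.{u}} (p : X ⟶ Y) [IsProper p] {L : X.Modules} (D : LB L)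
variable (q' : D.V ⟶ D.C' p) (hq'π : q' ≫ D.g' p = D.π ≫ p)

theorem LB.isIso_factor (hθ : IsIso p.c) (hamp : RelAmple.IsRelAmple p L) (hL : PicF.IsInvertible L)
    (hiso : IsIso (AffAlg.algHom (D.g' p) (D.π ≫ p) q' hq'π)) [IsIntegral X] {C : Scheme.{u}}
    (hC : Pi1.IsNormalScheme C) (g : C ⟶ Y) (ε : Y ⟶ C) (q : D.V ⟶ C) (hjq : D.j0 ≫ q = p ≫ ε) [IsProper q]
    (V0 : D.V.Opens) (hV0 : (V0 : Set D.V) = (Set.range D.j0)ᶜ) (hqo : IsOpenImmersion (V0.ι ≫ q))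
    (hqr : Set.range (V0.ι ≫ q).base = (Set.range ε.base)ᶜ) (u : D.C' p ⟶ C) (hug : u ≫ g = D.g' p)
    (hu : q' ≫ u = q) : IsIso u := by
  haveI : IsAffineHom D.π := D.affine
  haveI := D.isIntegral_C' p hL
  obtain ⟨huc, hus, hui, hW⟩ := D.factor_props p q' hq'π hθ hamp hL hiso g ε q hjq V0 hV0 hqo hqr u hug hu
  haveI : UniversallyClosed u := huc
  haveI : UniversallyInjective u := hui
  haveI : Surjective u := ⟨hus⟩
  haveI : IsReduced C := by
    haveI : ∀ c : C, _root_.IsReduced (C.presheaf.stalk c) := fun c => by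
      haveI := (hC c).1
      infer_instance
    exact isReduced_of_isReduced_stalk C
  have hgp : IsGenericPoint (u.base (genericPoint (D.C' p))) Set.univ := by
    have h := (genericPoint_spec (D.C' p)).image u.continuous
    rwa [Set.image_univ, Set.range_eq_univ.2 hus, closure_univ] at h
  haveI : Nonempty C := ⟨u.base (genericPoint (D.C' p))⟩
  haveI : PreirreducibleSpace C := ⟨hgp.isIrreducible.2⟩
  haveI : IrreducibleSpace C := { toNonempty := inferInstance }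
  haveI : IsIntegral C := isIntegral_of_irreducibleSpace_of_isReduced C
  refine S3568.result hC u (hgp.eq (genericPoint_spec C)) ?_
  haveI := surjective_of_isIso_c p hθ
  haveI := D.isProper_q' p q' hq'π hθ hamp hL hiso
  let W : (D.C' p).Opens := ⟨(q'.base '' Set.range D.j0.base)ᶜ,
    (q'.isClosedMap _ D.isClosed_range_j0).isOpen_compl⟩
  obtain ⟨hWo, hWr⟩ := hW W rfl
  obtain ⟨a, ha, -⟩ := exists_lineTriv_le hL (show genericPoint X ∈ (⊤ : X.Opens) from trivial)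
  have hgV0 : D.gen a ha ∈ V0 := by
    show D.gen a ha ∈ (V0 : Set D.V)
    rw [hV0]
    exact fun h => (D.mem_range_j0_iff a (D.gen_mem a ha)).1 h (D.gen_mem_basicOpen_T a ha)
  have hη : genericPoint (D.C' p) ∈ W := by
    refine ((genericPoint_spec (D.C' p)).mem_open_set_iff W.isOpen).2 ⟨q' (D.gen a ha), trivial, ?_⟩
    rintro ⟨v, ⟨x, rfl⟩, hv⟩
    have h1 := congrArg u.base hv
    have h2 : q (D.gen a ha) ∈ Set.range (V0.ι ≫ q).base := ⟨⟨_, hgV0⟩, rfl⟩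
    rw [hqr] at h2
    exact h2 ⟨p x, ((congr($hu (D.gen a ha))).symm.trans (h1.symm.trans (congr($hu (D.j0 x)).trans congr($hjq x)))).symm⟩
  let η : W := ⟨genericPoint (D.C' p), hη⟩
  haveI := hWo
  have e : (W.ι ≫ u).residueFieldMap η = u.residueFieldMap (W.ι η) ≫ W.ι.residueFieldMap η :=
    Scheme.residueFieldMap_comp W.ι u η
  haveI : IsIso (u.residueFieldMap (W.ι η) ≫ W.ι.residueFieldMap η) := e ▸ inferInstance
  haveI : IsIso (u.residueFieldMap (W.ι η)) := IsIso.of_isIso_comp_right _ (W.ι.residueFieldMap η)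
  exact (ConcreteCategory.isIso_iff_bijective (u.residueFieldMap (W.ι η))).1 inferInstance

end Groth.Agent.ContractX
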