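import Groth.Agent.ProjQ.Line
import Groth.Agent.InvX.Tensor
import Mathlib.Algebra.Polynomial.Eval.Defs

/-!
# Line bundles as schemes with fibre coordinates
-/

universe u

open CategoryTheory CategoryTheory.Limits AlgebraicGeometry TopologicalSpace Opposite Polynomial

set_option linter.style.haveILetI false
set_option linter.unusedSectionVars false
set_option backward.isDefEq.respectTransparency false
set_option backward.isDefEq.respectTransparency.types false

noncomputable section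

namespace Groth.Agent.ContractX

open Groth.Agent Groth.Agent.ProjQ

variable {X : Scheme.{u}}

/-- A scheme over `X` which over the frames of `L` is the affine line, with a zero section. -/
structure LB (L : X.Modules) where
  /-- the total space -/
  V : Scheme.{u}
  /-- the projection -/
  π : V ⟶ X
  affine : IsAffineHom π
  /-- the zero section -/
  j0 : X ⟶ V
  j0π : j0 ≫ π = 𝟙 X
  /-- the coordinate of a frame -/
  T : ∀ a : LineTriv L, Γ(V, π ⁻¹ᵁ a.1.1)
  bij : ∀ a : LineTriv L, Function.Bijective (Polynomial.eval₂RingHom (π.app a.1.1).hom (T a))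
  res : ∀ (a : LineTriv L) {U : X.Opens} (hU : IsAffineOpen U) (i : U ≤ a.1.1),
    AModX.resR (π.preimage_mono i) (T a) = T (a.restr hU i)
  smul : ∀ (a : LineTriv L) (u : Γ(X, a.1.1)) (h : InvX.IsFrame (u • a.2.1)),
    T ⟨a.1, u • a.2.1, h⟩ = π.app a.1.1 u * T a
  zero : ∀ (a : LineTriv L) (e : a.1.1 ≤ j0 ⁻¹ᵁ (π ⁻¹ᵁ a.1.1)), j0.appLE (π ⁻¹ᵁ a.1.1) a.1.1 e (T a) = 0

theorem appLE_eq_of_eq_id {g : X ⟶ X} (h : g = 𝟙 X) (U : X.Opens) (e : U ≤ g ⁻¹ᵁ U) (r : Γ(X, U)) :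
    g.appLE U U e r = r := by
  subst h
  simp [Scheme.Hom.appLE]
  exact congr($(X.presheaf.map_id (op U)) r)

/-- Points of an affine open with the same basic opens. -/
theorem eq_of_basicOpen_iff {U : X.Opens} (hU : IsAffineOpen U) {x y : X} (hx : x ∈ U) (hy : y ∈ U)
    (h : ∀ f : Γ(X, U), x ∈ X.basicOpen f ↔ y ∈ X.basicOpen f) : x = y := by
  obtain ⟨p, rfl⟩ := hU.range_fromSpec.ge hx
  obtain ⟨q, rfl⟩ := hU.range_fromSpec.ge hy
  refine congrArg _ (PrimeSpectrum.ext (Ideal.ext fun f => not_iff_not.mp ?_))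
  have h1 := fun p : PrimeSpectrum Γ(X, U) => (show (hU.fromSpec p ∈ X.basicOpen f) ↔ p ∈ hU.fromSpec ⁻¹ᵁ X.basicOpen f from Iff.rfl).trans
    (by rw [hU.fromSpec_preimage_basicOpen]; exact Iff.rfl : _ ↔ f ∉ p.asIdeal)
  exact ((h1 p).symm.trans (h f)).trans (h1 q)

namespace LB

variable {L : X.Modules} (D : LB L)

instance : IsAffineHom D.π := D.affine

theorem le_j0 (U : X.Opens) : U ≤ D.j0 ⁻¹ᵁ (D.π ⁻¹ᵁ U) := fun x hx => by
  show (D.j0 ≫ D.π) x ∈ U
  rw [D.j0π]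
  exact hx

/-- The functions over a frame as polynomials. -/
def ev (a : LineTriv L) : Γ(X, a.1.1)[X] →+* Γ(D.V, D.π ⁻¹ᵁ a.1.1) :=
  Polynomial.eval₂RingHom (D.π.app a.1.1).hom (D.T a)

theorem ev_bijective (a : LineTriv L) : Function.Bijective (D.ev a) := D.bij a

theorem ev_C (a : LineTriv L) (r : Γ(X, a.1.1)) : D.ev a (Polynomial.C r) = D.π.app a.1.1 r :=
  Polynomial.eval₂_C _ _

theorem ev_X (a : LineTriv L) : D.ev a Polynomial.X = D.T a := Polynomial.eval₂_X _ _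

theorem app_res {U W : X.Opens} (i : W ≤ U) (r : Γ(X, U)) :
    AModX.resR (D.π.preimage_mono i) (D.π.app U r) = D.π.app W (AModX.resR i r) :=
  (congr($(D.π.naturality (homOfLE i).op) r)).symm

theorem res_ev (a : LineTriv L) {U : X.Opens} (hU : IsAffineOpen U) (i : U ≤ a.1.1) (p : Γ(X, a.1.1)[X]) :
    AModX.resR (D.π.preimage_mono i) (D.ev a p) = D.ev (a.restr hU i) (p.map (AModX.resR i)) := by
  refine RingHom.congr_fun (f := (AModX.resR (D.π.preimage_mono i)).comp (D.ev a))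
    (g := (D.ev (a.restr hU i)).comp (Polynomial.mapRingHom (AModX.resR i))) (Polynomial.ringHom_ext (fun r => ?_) ?_) p
  · show AModX.resR (D.π.preimage_mono i) (D.ev a (Polynomial.C r)) =
      D.ev (a.restr hU i) ((Polynomial.C r).map (AModX.resR i))
    rw [Polynomial.map_C, D.ev_C, D.ev_C]
    exact D.app_res i r
  · show AModX.resR (D.π.preimage_mono i) (D.ev a Polynomial.X) =
      D.ev (a.restr hU i) (Polynomial.X.map (AModX.resR i))
    rw [Polynomial.map_X, D.ev_X, D.ev_X]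
    exact D.res a hU i

theorem ev_smul (a : LineTriv L) (u : Γ(X, a.1.1)) (h : InvX.IsFrame (u • a.2.1)) (p : Γ(X, a.1.1)[X]) :
    D.ev ⟨a.1, u • a.2.1, h⟩ p = D.ev a (p.comp (Polynomial.C u * Polynomial.X)) := by
  show Polynomial.eval₂ _ _ p = Polynomial.eval₂ _ _ _
  rw [Polynomial.eval₂_comp, Polynomial.eval₂_mul, Polynomial.eval₂_C, Polynomial.eval₂_X, D.smul a u h]

theorem j0_appLE_ev (a : LineTriv L) (p : Γ(X, a.1.1)[X]) :
    D.j0.appLE (D.π ⁻¹ᵁ a.1.1) a.1.1 (D.le_j0 _) (D.ev a p) = p.coeff 0 := by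
  refine RingHom.congr_fun (f := (D.j0.appLE (D.π ⁻¹ᵁ a.1.1) a.1.1 (D.le_j0 _)).hom.comp (D.ev a))
    (g := Polynomial.constantCoeff) (Polynomial.ringHom_ext (fun r => ?_) ?_) p
  · simp only [RingHom.comp_apply, Polynomial.constantCoeff_apply, Polynomial.coeff_C_zero]
    rw [ev_C, ← CommRingCat.comp_apply, Scheme.Hom.app_eq_appLE, Scheme.Hom.appLE_comp_appLE]
    exact appLE_eq_of_eq_id D.j0π _ _ r
  · simp only [RingHom.comp_apply, Polynomial.constantCoeff_apply, Polynomial.coeff_X_zero]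
    rw [ev_X]
    exact D.zero a _

theorem isAffineOpen_piece (a : LineTriv L) : IsAffineOpen (D.π ⁻¹ᵁ a.1.1) := a.1.2.preimage D.π

/-- Zero section and functions. -/
theorem j0_mem_basicOpen_ev (a : LineTriv L) (p : Γ(X, a.1.1)[X]) {x : X} (hx : x ∈ a.1.1) :
    D.j0 x ∈ D.V.basicOpen (D.ev a p) ↔ x ∈ X.basicOpen (p.coeff 0) := by
  rw [← D.j0_appLE_ev a p, Scheme.basicOpen_appLE]
  exact ⟨fun h => ⟨hx, h⟩, fun h => h.2⟩

/-- The evaluation of the functions on the fibre line over a point. -/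
def fibEval (a : LineTriv L) {x : X} (hx : x ∈ a.1.1) : Γ(D.V, D.π ⁻¹ᵁ a.1.1) →+* (X.residueField x)[X] :=
  (Polynomial.mapRingHom (X.evaluation a.1.1 x hx).hom).comp (RingEquiv.ofBijective _ (D.ev_bijective a)).symm.toRingHom

theorem fibEval_ev (a : LineTriv L) {x : X} (hx : x ∈ a.1.1) (p : Γ(X, a.1.1)[X]) :
    D.fibEval a hx (D.ev a p) = p.map (X.evaluation a.1.1 x hx).hom :=
  congrArg (Polynomial.map (X.evaluation a.1.1 x hx).hom) ((RingEquiv.ofBijective _ (D.ev_bijective a)).symm_apply_apply p)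

/-- The generic point of the fibre line over a point. -/
def gen (a : LineTriv L) {x : X} (hx : x ∈ a.1.1) : D.V :=
  (D.isAffineOpen_piece a).fromSpec
    (⟨RingHom.ker (D.fibEval a hx), RingHom.ker_isPrime _⟩ : PrimeSpectrum Γ(D.V, D.π ⁻¹ᵁ a.1.1))

theorem gen_mem (a : LineTriv L) {x : X} (hx : x ∈ a.1.1) : D.gen a hx ∈ D.π ⁻¹ᵁ a.1.1 :=
  (D.isAffineOpen_piece a).range_fromSpec.le (Set.mem_range_self _)

theorem gen_mem_basicOpen (a : LineTriv L) {x : X} (hx : x ∈ a.1.1) (f : Γ(D.V, D.π ⁻¹ᵁ a.1.1)) :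
    D.gen a hx ∈ D.V.basicOpen f ↔ D.fibEval a hx f ≠ 0 := by
  have h := (D.isAffineOpen_piece a).fromSpec_preimage_basicOpen f
  show ((⟨RingHom.ker (D.fibEval a hx), RingHom.ker_isPrime _⟩ : PrimeSpectrum _) : PrimeSpectrum _) ∈
    (D.isAffineOpen_piece a).fromSpec ⁻¹ᵁ D.V.basicOpen f ↔ _
  rw [h]
  exact Iff.rfl

theorem π_gen (a : LineTriv L) {x : X} (hx : x ∈ a.1.1) : D.π (D.gen a hx) = x := by
  refine eq_of_basicOpen_iff a.1.2 (D.gen_mem a hx) hx fun r => ?_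
  have h := D.gen_mem_basicOpen a hx (D.π.app a.1.1 r)
  rw [← Scheme.preimage_basicOpen, ← D.ev_C, fibEval_ev, Polynomial.map_C, Ne, Polynomial.C_eq_zero] at h
  exact h.trans (X.evaluation_ne_zero_iff_mem_basicOpen x hx r)

theorem gen_mem_basicOpen_T (a : LineTriv L) {x : X} (hx : x ∈ a.1.1) : D.gen a hx ∈ D.V.basicOpen (D.T a) := by
  rw [gen_mem_basicOpen, ← D.ev_X a, fibEval_ev, Polynomial.map_X]
  exact Polynomial.X_ne_zero

theorem j0_notMem_basicOpen_T (a : LineTriv L) {x : X} (hx : x ∈ a.1.1) : D.j0 x ∉ D.V.basicOpen (D.T a) := by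
  rw [← D.ev_X a, j0_mem_basicOpen_ev _ _ _ hx, Polynomial.coeff_X_zero, Scheme.basicOpen_zero]
  exact fun h => h

theorem isClosed_range_j0 : IsClosed (Set.range D.j0) := by
  haveI : IsClosedImmersion (D.j0 ≫ D.π) := by rw [D.j0π]; infer_instance
  haveI : IsClosedImmersion D.j0 := IsClosedImmersion.of_comp D.j0 D.π
  exact D.j0.isClosedEmbedding.isClosed_range

theorem mem_range_j0_iff (a : LineTriv L) {v : D.V} (hv : v ∈ D.π ⁻¹ᵁ a.1.1) :
    v ∈ Set.range D.j0 ↔ v ∉ D.V.basicOpen (D.T a) := by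
  constructor
  · rintro ⟨x, rfl⟩
    have e : D.π (D.j0 x) = x := by
      show (D.j0 ≫ D.π) x = x
      rw [D.j0π]; rfl
    exact D.j0_notMem_basicOpen_T a (e ▸ hv)
  · intro hT
    refine ⟨D.π v, eq_of_basicOpen_iff (D.isAffineOpen_piece a) (D.le_j0 _ hv) hv fun f => ?_⟩
    obtain ⟨p, rfl⟩ := (D.ev_bijective a).2 f
    rw [D.j0_mem_basicOpen_ev a p hv]
    have hp : D.ev a p = D.π.app a.1.1 (p.coeff 0) + D.T a * D.ev a p.divX := by
      conv_lhs => rw [← p.divX_mul_X_add, map_add, map_mul, D.ev_X, D.ev_C]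
      ring
    have h1 : ∀ c : Γ(D.V, D.π ⁻¹ᵁ a.1.1), v ∉ D.V.basicOpen (D.T a * c) := fun c h => hT (by
      rw [Scheme.basicOpen_mul] at h; exact h.1)
    have hpre : D.π v ∈ X.basicOpen (p.coeff 0) ↔ v ∈ D.V.basicOpen (D.π.app a.1.1 (p.coeff 0)) := by
      rw [← Scheme.preimage_basicOpen]; rfl
    rw [hpre]
    constructor <;> intro h
    · rw [show D.π.app a.1.1 (p.coeff 0) = D.ev a p + D.T a * (- D.ev a p.divX) by rw [hp]; ring] at h
      exact (D.V.basicOpen_add_le _ _ h).resolve_right (h1 _)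
    · rw [hp] at h
      exact (D.V.basicOpen_add_le _ _ h).resolve_right (h1 _)

end LB

/-- The powers of a frame. -/
def pw {L : X.Modules} {U : X.Opens} (e : Γ(L, U)) : ∀ n : ℕ, Γ(CohB1.tensorPow L n, U)
  | 0 => (1 : Γ(X, U))
  | n + 1 => InvX.tmul (pw e n) e

theorem isFrame_pw {L : X.Modules} {U : X.Opens} {e : Γ(L, U)} (he : InvX.IsFrame e) :
    ∀ n : ℕ, InvX.IsFrame (pw e n)
  | 0 => InvX.isFrame_one U
  | n + 1 => InvX.isFrame_tmul (isFrame_pw he n) he

theorem res_pw {L : X.Modules} {U W : X.Opens} (i : W ≤ U) (e : Γ(L, U)) :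
    ∀ n : ℕ, AModX.res (CohB1.tensorPow L n) i (pw e n) = pw (AModX.res L i e) n
  | 0 => map_one (AModX.resR i)
  | n + 1 => by
    show AModX.res _ i (InvX.tmul (pw e n) e) = InvX.tmul (pw (AModX.res L i e) n) (AModX.res L i e)
    rw [InvX.res_tmul, res_pw i e n]

theorem pw_smul {L : X.Modules} {U : X.Opens} (u : Γ(X, U)) (e : Γ(L, U)) :
    ∀ n : ℕ, pw (u • e) n = u ^ n • pw e n
  | 0 => by rw [pow_zero, one_smul]; rfl
  | n + 1 => by
    show InvX.tmul (pw (u • e) n) (u • e) = u ^ (n + 1) • InvX.tmul (pw e n) e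
    rw [pw_smul u e n, InvX.tmul_smul_left, InvX.tmul_smul_right, ← mul_smul, pow_succ]

end Groth.Agent.ContractX
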