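import Groth.Agent.ContractX.Forward
import Groth.Agent.ContractX.Backward
import Groth.Agent.ContractX.Inst

/-!
# The contraction criterion of ampleness
-/

universe u

open CategoryTheory CategoryTheory.Limits AlgebraicGeometry TopologicalSpace Opposite

set_option backward.isDefEq.respectTransparency false
set_option backward.isDefEq.respectTransparency.types false

namespace Groth.Agent.ContractX

open Groth.Agent

variable {X Y : Scheme.{u}} (p : X ⟶ Y) [IsSeparated p] [QuasiCompact p] {L : X.Modules}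
  (hL : PicF.IsInvertible L) (D : LB L) (V0 : D.V.Opens) (hV0 : (V0 : Set D.V) = (Set.range D.j0)ᶜ)

include hL hV0

theorem isRelAmple_iff_contraction : RelAmple.IsRelAmple p L ↔ ∃ (C : Scheme.{u}) (g : C ⟶ Y) (ε : Y ⟶ C)
    (q : D.V ⟶ C), ε ≫ g = 𝟙 Y ∧ q ≫ g = D.π ≫ p ∧ D.j0 ≫ q = p ≫ ε ∧ IsOpenImmersion (V0.ι ≫ q) ∧
      QuasiCompact (V0.ι ≫ q) ∧ Set.range (V0.ι ≫ q).base ∩ Set.range ε.base = ∅ := by
  constructor
  · intro h
    exact ⟨D.C p, D.g p, D.ε p, D.q p, ctrε_π _ _ _ _, ctrq_π _ _ _ _, comp_ctrq _ _ _ _,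
      D.isOpenImmersion_q p h hL V0 hV0, D.quasiCompact_q p hL V0 hV0, D.disjoint_q p h hL V0 hV0⟩
  · rintro ⟨C, g, ε, q, -, -, hj, hoi, -, hdis⟩
    exact isRelAmple_of_contraction p hL D V0 hV0 ε q hj hdis

theorem isRelAmple_iff_separated_contraction : RelAmple.IsRelAmple p L ↔ ∃ (C : Scheme.{u}) (g : C ⟶ Y)
    (ε : Y ⟶ C) (q : D.V ⟶ C), ε ≫ g = 𝟙 Y ∧ q ≫ g = D.π ≫ p ∧ D.j0 ≫ q = p ≫ ε ∧ IsSeparated g ∧
      IsOpenImmersion (V0.ι ≫ q) ∧ Set.range (V0.ι ≫ q).base ∩ Set.range ε.base = ∅ := by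
  constructor
  · intro h
    exact ⟨D.C p, D.g p, D.ε p, D.q p, ctrε_π _ _ _ _, ctrq_π _ _ _ _, comp_ctrq _ _ _ _, inferInstance,
      D.isOpenImmersion_q p h hL V0 hV0, D.disjoint_q p h hL V0 hV0⟩
  · rintro ⟨C, g, ε, q, -, -, hj, -, hoi, hdis⟩
    exact isRelAmple_of_contraction p hL D V0 hV0 ε q hj hdis

end Groth.Agent.ContractX
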