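import Groth.Agent.ContractX.Main
import Mathlib.AlgebraicGeometry.Morphisms.Integral
import Mathlib.AlgebraicGeometry.Morphisms.Proper

/-!
# The contraction of a proper family is proper
-/

universe u

open CategoryTheory CategoryTheory.Limits AlgebraicGeometry TopologicalSpace Opposite

set_option linter.style.haveILetI false
set_option linter.unusedSectionVars false
set_option backward.isDefEq.respectTransparency false
set_option backward.isDefEq.respectTransparency.types false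

noncomputable section

namespace Groth.Agent.ContractX

open Groth.Agent Groth.Agent.ProjQ

variable {X Y : Scheme.{u}} (p : X ⟶ Y) [IsProper p] {L : X.Modules} (D : LB L)

theorem LB.locallyOfFiniteType_π (hL : PicF.IsInvertible L) : LocallyOfFiniteType D.π := by
  refine (IsZariskiLocalAtTarget.iff_of_iSup_eq_top (P := @LocallyOfFiniteType)
    (fun a : LineTriv L => a.1.1) (top_unique fun x _ => ?_)).2 fun a => ?_
  · obtain ⟨a, ha, -⟩ := exists_lineTriv_le hL (show x ∈ (⊤ : X.Opens) from trivial)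
    exact Opens.mem_iSup.2 ⟨a, ha⟩
  haveI : IsAffine ((a.1.1 : X.Opens) : Scheme.{u}) := a.1.2
  haveI : IsAffine ((D.π ⁻¹ᵁ a.1.1 : D.V.Opens) : Scheme.{u}) := D.isAffineOpen_piece a
  refine (HasRingHomProperty.iff_of_isAffine (P := @LocallyOfFiniteType)).2 ?_
  rw [Scheme.Hom.appTop, morphismRestrict_app']
  have h0 : (D.π.app a.1.1).hom.FiniteType := by
    have : (D.π.app a.1.1).hom = (D.ev a).comp Polynomial.C := RingHom.ext fun r => (D.ev_C a r).symm
    rw [this]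
    exact RingHom.FiniteType.comp_surjective (RingHom.finiteType_algebraMap.2 inferInstance) (D.ev_bijective a).2
  have : ∀ (U' : X.Opens) (V' : D.V.Opens) (_ : U' = a.1.1) (_ : V' = D.π ⁻¹ᵁ a.1.1) (e' : V' ≤ D.π ⁻¹ᵁ U'),
      (D.π.appLE U' V' e').hom.FiniteType := by
    rintro U' V' rfl rfl e'
    rw [← Scheme.Hom.app_eq_appLE]
    exact h0
  exact this _ _ (Scheme.Opens.ι_image_top _) (Scheme.Opens.ι_image_top _) _

/-- The map to the fibre product. -/
abbrev LB.lift : D.V ⟶ pullback p (D.g p) :=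
  pullback.lift D.π (D.q p) (ctrq_π p (D.π ≫ p) D.j0 (D.j0_π_p p)).symm

theorem LB.exists_frame_integral (hamp : RelAmple.IsRelAmple p L) (hL : PicF.IsInvertible L) (x : X) :
    ∃ a : LineTriv L, x ∈ a.1.1 ∧
      IsIntegralHom (D.lift p ∣_ (pullback.fst p (D.g p) ⁻¹ᵁ a.1.1)) := by
  haveI : IsAffineHom D.π := D.affine
  obtain ⟨_, ⟨O, hO, rfl⟩, hyO, -⟩ :=
    Y.isBasis_affineOpens.exists_subset_of_mem_open (Set.mem_univ (p x)) isOpen_univ
  obtain ⟨-, hz⟩ := (AmpleX.isAmple_restrict_iff (p ⁻¹ᵁ O).ι hL).1 (hamp.2 ⟨O, hO⟩)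
  obtain ⟨n, hn, a0, hxa, -⟩ := hz ⟨x, hyO⟩
  let s := AModX.res (CohB1.tensorPow L n) (p ⁻¹ᵁ O).ι_image_top.ge a0
  have hloc : AmpleX.locus s = AmpleX.locus a0 :=
    (AmpleX.locus_res a0 _).trans (inf_eq_left.2 ((AmpleX.locus_le a0).trans (p ⁻¹ᵁ O).ι_image_top.le))
  obtain ⟨a, hxU, hle⟩ := exists_lineTriv_le hL (show x ∈ AmpleX.locus s from hloc ▸ hxa)
  refine ⟨a, hxU, ?_⟩
  have hUO : a.1.1 ≤ p ⁻¹ᵁ O := hle.trans (AmpleX.locus_le s)
  let h : Γ(D.V, (D.π ≫ p) ⁻¹ᵁ O) := D.hat s hL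
  have hh : jh p (D.π ≫ p) D.j0 (D.j0_π_p p) O h = 0 := by
    rw [jh, RelSpecX.algHom_app]
    exact D.j0_hat s hL hn.ne' _
  let P := pullback p (D.g p)
  let UP : P.Opens := pullback.fst p (D.g p) ⁻¹ᵁ a.1.1
  haveI : IsAffineHom (pullback.fst p (D.g p)) :=
    MorphismProperty.pullback_fst (P := @IsAffineHom) p (D.g p) inferInstance
  haveI : IsAffine (UP : Scheme.{u}) := a.1.2.preimage (pullback.fst p (D.g p))
  have hpre : D.lift p ⁻¹ᵁ UP = D.π ⁻¹ᵁ a.1.1 := by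
    show (D.lift p ≫ pullback.fst p (D.g p)) ⁻¹ᵁ a.1.1 = _
    rw [pullback.lift_fst]
  haveI : IsAffine ((D.lift p ⁻¹ᵁ UP : D.V.Opens) : Scheme.{u}) := by
    rw [hpre]; exact D.isAffineOpen_piece a
  refine (HasAffineProperty.iff_of_isAffine (P := @IsIntegralHom)).2 ⟨inferInstance, ?_⟩
  let f := ((D.lift p).appLE UP (D.π ⁻¹ᵁ a.1.1) hpre.ge).hom
  have hπ : ∀ r : Γ(X, a.1.1), ∃ z, f z = D.π.app a.1.1 r := fun r => by
    refine ⟨(pullback.fst p (D.g p)).appLE a.1.1 UP le_rfl r, ?_⟩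
    refine congr($(Scheme.Hom.appLE_comp_appLE (D.lift p) (pullback.fst p (D.g p)) a.1.1 UP (D.π ⁻¹ᵁ a.1.1) le_rfl hpre.ge) r).trans ?_
    have : ∀ (φ : D.V ⟶ X) (_ : φ = D.π) (e : D.π ⁻¹ᵁ a.1.1 ≤ φ ⁻¹ᵁ a.1.1),
        φ.appLE a.1.1 (D.π ⁻¹ᵁ a.1.1) e r = D.π.app a.1.1 r := by
      rintro φ rfl e
      rw [← Scheme.Hom.app_eq_appLE]
    exact this _ (pullback.lift_fst _ _ _) _
  have hhat : ∃ z, f z = D.hatLoc s a hUO := by
    have e1 : UP ≤ pullback.snd p (D.g p) ⁻¹ᵁ (D.g p ⁻¹ᵁ O) := fun w hw => by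
      show (pullback.snd p (D.g p) ≫ D.g p) w ∈ O
      rw [← pullback.condition]
      exact hUO hw
    refine ⟨(pullback.snd p (D.g p)).appLE (D.g p ⁻¹ᵁ O) UP e1 (D.elt p hO h hh), ?_⟩
    refine congr($(Scheme.Hom.appLE_comp_appLE (D.lift p) (pullback.snd p (D.g p)) _ UP (D.π ⁻¹ᵁ a.1.1) e1 hpre.ge)
      (D.elt p hO h hh)).trans ?_
    rw [← D.res_hat s hL a hUO]
    have : ∀ (φ : D.V ⟶ D.C p) (_ : φ = D.q p) (e : D.π ⁻¹ᵁ a.1.1 ≤ φ ⁻¹ᵁ (D.g p ⁻¹ᵁ O)),
        φ.appLE (D.g p ⁻¹ᵁ O) (D.π ⁻¹ᵁ a.1.1) e (D.elt p hO h hh) = AModX.resR (D.π.preimage_mono hUO) h := by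
      rintro φ rfl e
      refine Eq.trans ?_ (congrArg (AModX.resR (D.π.preimage_mono hUO)) (D.appLE_q_elt p hO h hh))
      exact (congr($((D.q p).appLE_map (le_ctrq p (D.π ≫ p) D.j0 (D.j0_π_p p) O)
        (homOfLE (D.π.preimage_mono hUO)).op) (D.elt p hO h hh))).symm
    exact this _ (pullback.lift_snd _ _ _) _
  have hT : f.IsIntegralElem (D.T a) := by
    obtain ⟨z, hz⟩ := hhat
    have hc : IsUnit (crd s a hUO) := by
      have h1 : a.1.1 ≤ X.basicOpen (crd s a hUO) :=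
        (AmpleX.locus_inf s hUO (isFrame_pw a.2.2 n) (res_eq_crd s a hUO)).symm ▸ le_inf hle le_rfl
      simpa using AModX.isUnit_resR le_rfl (crd s a hUO) h1
    obtain ⟨u, hu⟩ := hc
    obtain ⟨w, hw⟩ := hπ ↑u⁻¹
    refine ⟨Polynomial.X ^ n - Polynomial.C (w * z), Polynomial.monic_X_pow_sub_C _ hn.ne', ?_⟩
    rw [Polynomial.eval₂_sub, Polynomial.eval₂_pow, Polynomial.eval₂_X, Polynomial.eval₂_C, map_mul, hw, hz,
      LB.hatLoc, ← hu, ← mul_assoc, ← map_mul, Units.inv_mul, map_one, one_mul, sub_self]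
  have hint : f.IsIntegral := fun y => by
    obtain ⟨q, rfl⟩ := (D.ev_bijective a).2 y
    induction q using Polynomial.induction_on' with
    | add q r hq hr => rw [map_add]; exact RingHom.IsIntegralElem.add f hq hr
    | monomial m c =>
      rw [← Polynomial.C_mul_X_pow_eq_monomial, map_mul, map_pow, D.ev_C, D.ev_X]
      obtain ⟨w, hw⟩ := hπ c
      rw [← hw]
      refine RingHom.IsIntegralElem.mul f f.isIntegralElem_map ?_
      induction m with
      | zero => rw [pow_zero, ← map_one f]; exact f.isIntegralElem_map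
      | succ m ih => rw [pow_succ]; exact RingHom.IsIntegralElem.mul f ih hT
  rw [morphismRestrict_app']
  have : ∀ (U' : P.Opens) (V' : D.V.Opens) (_ : U' = UP) (_ : V' = D.π ⁻¹ᵁ a.1.1) (e' : V' ≤ D.lift p ⁻¹ᵁ U'),
      ((D.lift p).appLE U' V' e').hom.IsIntegral := by
    rintro U' V' rfl rfl e'
    exact hint
  exact this _ _ (Scheme.Opens.ι_image_top _) ((Scheme.Opens.ι_image_top _).trans hpre) _

theorem LB.isProper_q (hamp : RelAmple.IsRelAmple p L) (hL : PicF.IsInvertible L) : IsProper (D.q p) := by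
  choose a hxa hint using fun x => D.exists_frame_integral p hamp hL x
  haveI : IsIntegralHom (D.lift p) := by
    refine (IsZariskiLocalAtTarget.iff_of_iSup_eq_top (P := @IsIntegralHom)
      (fun x : X => pullback.fst p (D.g p) ⁻¹ᵁ (a x).1.1) (top_unique fun w _ => ?_)).2 hint
    exact Opens.mem_iSup.2 ⟨pullback.fst p (D.g p) w, hxa _⟩
  haveI : LocallyOfFiniteType (D.lift p ≫ pullback.fst p (D.g p)) := by
    rw [pullback.lift_fst]; exact D.locallyOfFiniteType_π hL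
  haveI : LocallyOfFiniteType (D.lift p) := locallyOfFiniteType_of_comp _ (pullback.fst p (D.g p))
  haveI : IsFinite (D.lift p) := (IsFinite.iff_isIntegralHom_and_locallyOfFiniteType _).2 ⟨inferInstance, inferInstance⟩
  haveI : IsProper (pullback.snd p (D.g p)) :=
    MorphismProperty.pullback_snd (P := @IsProper) p (D.g p) inferInstance
  have : IsProper (D.lift p ≫ pullback.snd p (D.g p)) := inferInstance
  rwa [pullback.lift_snd] at this

theorem isRelAmple_iff_proper_contraction (hL : PicF.IsInvertible L) (V0 : D.V.Opens)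
    (hV0 : (V0 : Set D.V) = (Set.range D.j0)ᶜ) : RelAmple.IsRelAmple p L ↔ ∃ (C : Scheme.{u}) (g : C ⟶ Y)
    (ε : Y ⟶ C) (q : D.V ⟶ C), ε ≫ g = 𝟙 Y ∧ q ≫ g = D.π ≫ p ∧ D.j0 ≫ q = p ≫ ε ∧ IsProper q ∧
      IsOpenImmersion (V0.ι ≫ q) ∧ QuasiCompact (V0.ι ≫ q) ∧
      Set.range (V0.ι ≫ q).base = (Set.range ε.base)ᶜ := by
  constructor
  · intro h
    haveI := D.isProper_q p h hL
    refine ⟨D.C p, D.g p, D.ε p, D.q p, ctrε_π _ _ _ _, ctrq_π _ _ _ _, comp_ctrq _ _ _ _, D.isProper_q p h hL,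
      D.isOpenImmersion_q p h hL V0 hV0, D.quasiCompact_q p hL V0 hV0, ?_⟩
    have hcl : IsClosed (Set.range (D.q p)) := by
      have := (D.q p).isClosedMap _ isClosed_univ
      rwa [Set.image_univ] at this
    have hu := range_union p (D.π ≫ p) D.j0 (D.j0_π_p p) hcl
    have hd := D.disjoint_q p h hL V0 hV0
    refine Set.Subset.antisymm (fun c hc he => (Set.eq_empty_iff_forall_notMem.1 hd c) ⟨hc, he⟩) fun c hc => ?_
    obtain ⟨v, rfl⟩ | he := hu.ge (Set.mem_univ c)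
    · by_cases hv : v ∈ V0
      · exact ⟨⟨v, hv⟩, rfl⟩
      · obtain ⟨x, rfl⟩ : v ∈ Set.range D.j0 := by
          by_contra hn
          exact hv (show v ∈ (V0 : Set D.V) from hV0 ▸ hn)
        exact absurd ⟨p x, congr($(comp_ctrq p (D.π ≫ p) D.j0 (D.j0_π_p p)) x).symm⟩ hc
    · exact absurd he hc
  · rintro ⟨C, g, ε, q, -, -, hj, -, hoi, -, hr⟩
    exact isRelAmple_of_contraction p hL D V0 hV0 ε q hj
      ((congrArg (fun S => S ∩ Set.range ε.base) hr).trans (Set.compl_inter_self _))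

end Groth.Agent.ContractX
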