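import Groth.Agent.ContractX.Factor
import Mathlib.AlgebraicGeometry.Morphisms.UniversallyInjective
import Mathlib.AlgebraicGeometry.Morphisms.UniversallyClosed

/-!
# The factor of a contraction through the spectrum of the direct image is radicial
-/

universe u

open CategoryTheory CategoryTheory.Limits AlgebraicGeometry TopologicalSpace Opposite

set_option linter.style.haveILetI false
set_option linter.unusedSectionVars false
set_option backward.isDefEq.respectTransparency false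
set_option backward.isDefEq.respectTransparency.types false

noncomputable section

namespace Groth.Agent.ContractX

open Groth.Agent Groth.Agent.ProjQ

variable {X Y : Scheme.{u}} (p : X ⟶ Y) [IsProper p] {L : X.Modules} (D : LB L)
variable (q' : D.V ⟶ D.C' p) (hq'π : q' ≫ D.g' p = D.π ≫ p)

theorem LB.exists_vertex' (hθ : IsIso p.c) (hiso : IsIso (AffAlg.algHom (D.g' p) (D.π ≫ p) q' hq'π)) :
    ∃ ε' : Y ⟶ D.C' p, ε' ≫ D.g' p = 𝟙 Y ∧ D.j0 ≫ q' = p ≫ ε' := by
  obtain ⟨e, he, heg, hqe⟩ := D.exists_comparison p q' hq'π hθ hiso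
  refine ⟨D.ε p ≫ inv e, by rw [Category.assoc, ← heg, IsIso.inv_hom_id_assoc, ctrε_π], ?_⟩
  rw [(IsIso.eq_comp_inv e).2 hqe, ← Category.assoc, comp_ctrq, Category.assoc]

theorem LB.factor_props (hθ : IsIso p.c) (hamp : RelAmple.IsRelAmple p L) (hL : PicF.IsInvertible L)
    (hiso : IsIso (AffAlg.algHom (D.g' p) (D.π ≫ p) q' hq'π)) {C : Scheme.{u}} (g : C ⟶ Y) (ε : Y ⟶ C)
    (q : D.V ⟶ C) (hjq : D.j0 ≫ q = p ≫ ε) [IsProper q] (V0 : D.V.Opens)
    (hV0 : (V0 : Set D.V) = (Set.range D.j0)ᶜ) (hqo : IsOpenImmersion (V0.ι ≫ q))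
    (hqr : Set.range (V0.ι ≫ q).base = (Set.range ε.base)ᶜ) (u : D.C' p ⟶ C) (hug : u ≫ g = D.g' p)
    (hu : q' ≫ u = q) :
    UniversallyClosed u ∧ Function.Surjective u.base ∧ UniversallyInjective u ∧
      ∀ W : (D.C' p).Opens, (W : Set (D.C' p)) = (q'.base '' Set.range D.j0.base)ᶜ →
        IsOpenImmersion (W.ι ≫ u) ∧ Set.range (W.ι ≫ u).base = (Set.range ε.base)ᶜ := by
  haveI := surjective_of_isIso_c p hθ
  haveI := D.isProper_q' p q' hq'π hθ hamp hL hiso
  haveI := D.surjective_q' p q' hq'π hθ hamp hL hiso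
  obtain ⟨e, he, heg, hqe⟩ := D.exists_comparison p q' hq'π hθ hiso
  obtain ⟨ε', hε', hjq'⟩ := D.exists_vertex' p q' hq'π hθ hiso
  haveI : IsIso p.c := hθ
  have hε'u : ε' ≫ u = ε := by
    refine (S3567.result p (p.isClosedMap.isQuotientMap p.continuous p.surjective) C).1 _ _ ?_
    rw [← Category.assoc, ← hjq', Category.assoc, hu, hjq]
  haveI : IsClosedImmersion (ε' ≫ D.g' p) := by rw [hε']; infer_instance
  haveI : IsClosedImmersion ε' := IsClosedImmersion.of_comp ε' (D.g' p)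
  let W : (D.C' p).Opens := ⟨(Set.range ε')ᶜ, ε'.isClosedEmbedding.isClosed_range.isOpen_compl⟩
  have himg : q'.base '' Set.range D.j0.base = Set.range ε'.base := by
    rw [← Set.range_comp]
    refine Set.ext fun c => ⟨?_, ?_⟩
    · rintro ⟨x, rfl⟩
      exact ⟨p x, (congr($hjq' x)).symm⟩
    · rintro ⟨y, rfl⟩
      obtain ⟨x, rfl⟩ := p.surjective y
      exact ⟨x, congr($hjq' x)⟩
  haveI := D.isOpenImmersion_q p hamp hL V0 hV0
  haveI : IsOpenImmersion (V0.ι ≫ q') := by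
    rw [(IsIso.eq_comp_inv e).2 hqe, ← Category.assoc]
    infer_instance
  have hV0mem : ∀ v, v ∈ V0 ↔ v ∉ Set.range D.j0 := fun v => Set.ext_iff.1 hV0 v
  have hrange : Set.range (V0.ι ≫ q').base = (Set.range ε'.base)ᶜ := by
    refine Set.ext fun c => ⟨?_, fun hc => ?_⟩
    · rintro ⟨v, rfl⟩ ⟨y, hy⟩
      have h1 := congrArg u.base hy
      have h2 : q v.1 ∈ Set.range (V0.ι ≫ q).base := ⟨v, rfl⟩
      rw [hqr] at h2
      exact h2 ⟨y, (congr($hε'u y)).symm.trans (h1.trans congr($hu v.1))⟩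
    · obtain ⟨v, rfl⟩ := q'.surjective c
      refine ⟨⟨v, (hV0mem v).2 ?_⟩, rfl⟩
      rintro ⟨x, rfl⟩
      exact hc (himg.le (Set.mem_image_of_mem _ ⟨x, rfl⟩))
  have hWrange : Set.range (V0.ι ≫ q').base = Set.range W.ι.base := hrange.trans W.range_ι.symm
  let φ := IsOpenImmersion.isoOfRangeEq (V0.ι ≫ q') W.ι hWrange
  have hWu : W.ι ≫ u = φ.inv ≫ V0.ι ≫ q := by
    rw [← hu, ← cancel_epi φ.hom, ← Category.assoc φ.hom W.ι,
      show φ.hom ≫ W.ι = V0.ι ≫ q' from IsOpenImmersion.isoOfRangeEq_hom_fac _ _ hWrange]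
    simp
  haveI hWo : IsOpenImmersion (W.ι ≫ u) := by rw [hWu]; infer_instance
  have hWr : Set.range (W.ι ≫ u).base = (Set.range ε.base)ᶜ := by
    rw [hWu, Scheme.Hom.comp_base, TopCat.coe_comp,
      Function.Surjective.range_comp φ.inv.surjective, hqr]
  refine ⟨?_, fun c => ?_, ?_, fun W' hW' => ?_⟩
  · haveI : UniversallyClosed (q' ≫ u) := by rw [hu]; infer_instance
    exact UniversallyClosed.of_comp_surjective q' u
  · by_cases hc : c ∈ Set.range ε.base
    · obtain ⟨y, rfl⟩ := hc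
      exact ⟨ε' y, congr($hε'u y)⟩
    · obtain ⟨w, hw⟩ : c ∈ Set.range (W.ι ≫ u).base := hWr.ge hc
      exact ⟨W.ι w, hw⟩
  · refine ((tfae_universallyInjective u).out 1 0).1 ?_
    intro K instK g1 g2 h
    replace h : g1 ≫ u = g2 ≫ u := h
    have hpt : ∀ (g : Spec (.of K) ⟶ D.C' p), (∀ t, g t ∈ W) ↔ ∀ t, (g ≫ u) t ∉ Set.range ε.base := fun g =>
      forall_congr' fun t => ⟨fun ht => hWr.le ⟨⟨g t, ht⟩, rfl⟩, fun ht hm => by
        obtain ⟨y, hy⟩ := hm
        exact ht ⟨y, (congr($hε'u y)).symm.trans (congrArg u.base hy)⟩⟩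
    by_cases hW1 : ∀ t, g1 t ∈ W
    · have hW2 : ∀ t, g2 t ∈ W := (hpt g2).2 (h ▸ (hpt g1).1 hW1)
      have h1 : IsOpenImmersion.lift W.ι g1 (by rintro _ ⟨t, rfl⟩; exact ⟨⟨_, hW1 t⟩, rfl⟩) ≫ W.ι = g1 :=
        IsOpenImmersion.lift_fac ..
      have h2 : IsOpenImmersion.lift W.ι g2 (by rintro _ ⟨t, rfl⟩; exact ⟨⟨_, hW2 t⟩, rfl⟩) ≫ W.ι = g2 :=
        IsOpenImmersion.lift_fac ..
      rw [← h1, ← h2]
      congr 1
      rw [← cancel_mono (W.ι ≫ u), ← Category.assoc, ← Category.assoc, h1, h2, h]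
    · have hW2 : ¬ ∀ t, g2 t ∈ W := fun hh => hW1 ((hpt g1).2 (h ▸ (hpt g2).1 hh))
      have key : ∀ (g : Spec (.of K) ⟶ D.C' p), (¬ ∀ t, g t ∈ W) → g = (g ≫ D.g' p) ≫ ε' := fun g hg => by
        push Not at hg
        obtain ⟨t, ht⟩ := hg
        obtain ⟨y, hy⟩ : g t ∈ Set.range ε' := by
          by_contra hn
          exact ht hn
        obtain ⟨z, hz, -⟩ := Scheme.Pullback.exists_preimage_pullback (f := g) (g := ε') t y hy.symm
        haveI : Surjective (pullback.fst g ε') := ⟨fun s => ⟨z, hz.trans (Subsingleton.elim _ _)⟩⟩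
        haveI : IsClosedImmersion (pullback.fst g ε') :=
          MorphismProperty.pullback_fst (P := @IsClosedImmersion) g ε' inferInstance
        haveI := isIso_of_isClosedImmersion_of_surjective (pullback.fst g ε')
        rw [← cancel_epi (pullback.fst g ε'), ← Category.assoc, ← Category.assoc, pullback.condition,
          Category.assoc (pullback.snd g ε'), hε', Category.comp_id]
      rw [key g1 hW1, key g2 hW2, ← hug, ← Category.assoc g1, ← Category.assoc g2, h]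
  · obtain rfl : W' = W := Opens.ext (hW'.trans (congrArg (·ᶜ) himg))
    exact ⟨hWo, hWr⟩

end Groth.Agent.ContractX
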